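import Groth.Agent.TorsorLift.Mor
import Mathlib.RingTheory.Smooth.Pi

/-!
Formal smoothness of morphisms of schemes is Zariski local on source and target.
-/

set_option autoImplicit false
set_option backward.isDefEq.respectTransparency false
set_option backward.isDefEq.respectTransparency.types false

universe u

open CategoryTheory CategoryTheory.Limits AlgebraicGeometry Opposite

namespace Groth.Agent.TorsorLift

open _root_.AlgSp Groth.Agent.ASp Groth.Agent.Inf

/-- Formally smooth ring maps give formally smooth morphisms of affine schemes. -/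
theorem fsHom_specMap {R S : CommRingCat.{u}} (φ : R ⟶ S)
    (h : letI := φ.hom.toAlgebra; Algebra.FormallySmooth R S) :
    MoreMor.IsFormallySmoothHom (Spec.map φ) := by
  intro A _ I hI a b w
  obtain ⟨ψ₀, rfl⟩ := Spec.map_surjective a
  obtain ⟨β, rfl⟩ := Spec.map_surjective b
  rw [← Spec.map_comp, ← Spec.map_comp] at w
  letI := φ.hom.toAlgebra
  letI : Algebra R A := β.hom.toAlgebra
  haveI : Algebra.FormallySmooth R S := h
  let σ : S →ₐ[R] A ⧸ I :=
    { ψ₀.hom with commutes' := fun x => (congr($(Spec.map_injective w).hom x)).symm }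
  obtain ⟨c, hc⟩ := Algebra.FormallySmooth.exists_lift I ⟨2, hI⟩ σ
  refine ⟨Spec.map (CommRingCat.ofHom c.toRingHom), ?_, ?_⟩
  · rw [← Spec.map_comp]
    congr 1
    exact CommRingCat.hom_ext (RingHom.ext fun x => AlgHom.congr_fun hc x)
  · rw [← Spec.map_comp]
    congr 1
    exact CommRingCat.hom_ext (RingHom.ext fun x => c.commutes x)

/-- A morphism covered by formally smooth maps of affine opens is formally smooth. -/
theorem isFormallySmoothHom_of_locally {X Y : Scheme.{u}} (f : X ⟶ Y)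
    (h : ∀ x : X, ∃ (U : X.Opens) (V : Y.Opens) (_ : IsAffineOpen U) (_ : IsAffineOpen V)
      (hUV : U ≤ f ⁻¹ᵁ V), x ∈ U ∧
        (letI := (f.appLE V U hUV).hom.toAlgebra; Algebra.FormallySmooth Γ(Y, V) Γ(X, U))) :
    MoreMor.IsFormallySmoothHom f := by
  intro A _ I hI a b w
  choose U V hU hV hUV hxU hfs using h
  let SA : Scheme.{u} := Spec (CommRingCat.of A)
  let q : Spec (CommRingCat.of (A ⧸ I)) ⟶ SA := Spec.map (CommRingCat.ofHom (Ideal.Quotient.mk I))
  let σ : Spec (CommRingCat.of (A ⧸ I)) ⟶ pullback f b := pullback.lift a q w.symm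
  have hfsU : ∀ x, MoreMor.IsFormallySmoothHom (f.resLE (V x) (U x) (hUV x)) := fun x => by
    rw [FEtHom.resLE_eq_specMap f (hU x) (hV x) (hUV x)]
    exact SmoothLiftLib.comp (SmoothLiftLib.of_iso _)
      (SmoothLiftLib.comp (fsHom_specMap _ (hfs x)) (SmoothLiftLib.of_iso _))
  have hmem : ∀ t, q t ∈ b ⁻¹ᵁ V (a t) := fun t => by
    show b (q t) ∈ V (a t)
    rw [← Scheme.Hom.comp_apply, w, Scheme.Hom.comp_apply]
    exact hUV (a t) (hxU (a t))
  have hD : ∀ t, ∃ D : SA.Opens, IsAffineOpen D ∧ q t ∈ D ∧ D ≤ b ⁻¹ᵁ V (a t) := fun t => by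
    obtain ⟨_, ⟨D, hD, rfl⟩, hxD, hDV⟩ :=
      SA.isBasis_affineOpens.exists_subset_of_mem_open (hmem t) (b ⁻¹ᵁ V (a t)).isOpen
    exact ⟨D, hD, hxD, hDV⟩
  choose D hDa hqD hDV using hD
  let j : ∀ t, pullback (f.resLE (V (a t)) (U (a t)) (hUV _)) (b.resLE (V (a t)) (D t) (hDV t)) ⟶
      pullback f b := fun t =>
    pullback.map _ _ f b (U (a t)).ι (D t).ι (V (a t)).ι (Scheme.Hom.resLE_comp_ι _ _)
      (Scheme.Hom.resLE_comp_ι _ _)
  haveI hjo : ∀ t, IsOpenImmersion (j t) := fun t => inferInstance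
  have hσj : ∀ t, σ t ∈ Set.range (j t) := fun t => by
    simp only [j]
    rw [Scheme.Pullback.range_map]
    constructor
    · show pullback.fst f b (σ t) ∈ Set.range (U (a t)).ι
      rw [← Scheme.Hom.comp_apply, pullback.lift_fst, Scheme.Opens.range_ι]
      exact hxU (a t)
    · show pullback.snd f b (σ t) ∈ Set.range (D t).ι
      rw [← Scheme.Hom.comp_apply, pullback.lift_snd, Scheme.Opens.range_ι]
      exact hqD t
  obtain ⟨s, hs⟩ := isCompact_univ.elim_finite_subcover (fun t => σ ⁻¹' Set.range (j t))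
    (fun t => (j t).isOpenEmbedding.isOpen_range.preimage σ.continuous)
    (fun t _ => Set.mem_iUnion.2 ⟨t, hσj t⟩)
  haveI : ∀ t, IsAffine (pullback (f.resLE (V (a t)) (U (a t)) (hUV _)) (b.resLE (V (a t)) (D t) (hDV t))) :=
    fun t => by
      haveI : IsAffine (U (a t)).toScheme := hU _
      haveI : IsAffine (V (a t)).toScheme := hV _
      haveI : IsAffine (D t).toScheme := hDa t
      infer_instance
  let C : s → CommRingCat.{u} := fun t =>
    Γ(pullback (f.resLE (V (a t.1)) (U (a t.1)) (hUV _)) (b.resLE (V (a t.1)) (D t.1) (hDV t.1)), ⊤)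
  let k : ∀ t : s, Spec (C t) ⟶ pullback f b := fun t =>
    (pullback (f.resLE (V (a t.1)) (U (a t.1)) (hUV _)) (b.resLE (V (a t.1)) (D t.1) (hDV t.1))).isoSpec.inv ≫ j t.1
  have hγ : ∀ t : s, ∃ γ : CommRingCat.of A ⟶ C t, Spec.map γ = k t ≫ pullback.snd f b :=
    fun t => Spec.map_surjective _
  choose γ hγ using hγ
  letI : ∀ t : s, Algebra A (C t) := fun t => (γ t).hom.toAlgebra
  haveI : ∀ t : s, Algebra.FormallySmooth A (C t) := fun t => by
    refine SmoothLiftLib.formallySmooth_of_spec_map (γ t) ?_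
    rw [hγ, Category.assoc]
    refine SmoothLiftLib.comp (SmoothLiftLib.of_iso _) ?_
    rw [show j t.1 ≫ pullback.snd f b = pullback.snd _ _ ≫ (D t.1).ι from pullback.lift_snd _ _ _]
    exact SmoothLiftLib.comp (fsHom_of_isPullback (IsPullback.of_hasPullback _ _) (hfsU _))
      (SmoothLiftLib.of_isOpenImmersion _)
  let W : Scheme.{u} := ∐ fun t : s => Spec (C t)
  let jW : W ⟶ pullback f b := Sigma.desc k
  have hjW : Etale jW := by
    rw [IsZariskiLocalAtSource.iff_of_openCover (P := @Etale) (sigmaOpenCover fun t : s => Spec (C t))]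
    intro t
    have e : (sigmaOpenCover fun t : s => Spec (C t)).f t ≫ jW = k t := Sigma.ι_desc _ _
    rw [e]
    haveI : IsOpenImmersion (k t) := by dsimp only [k]; infer_instance
    infer_instance
  let P' : (pullback f b).Opens := ⟨Set.range jW, jW.isOpenMap.isOpen_range⟩
  have hrW : Set.range jW ⊆ Set.range P'.ι := by rw [Scheme.Opens.range_ι]; exact subset_rfl
  let p' : W ⟶ P'.toScheme := IsOpenImmersion.lift P'.ι jW hrW
  have hp' : p' ≫ P'.ι = jW := IsOpenImmersion.lift_fac _ _ _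
  haveI : Etale p' := by
    haveI : Etale (p' ≫ P'.ι) := by rw [hp']; exact hjW
    exact Etale.of_comp p' P'.ι
  haveI : Surjective p' := ⟨fun x => by
    obtain ⟨y, hy⟩ : P'.ι x ∈ Set.range jW := x.2
    refine ⟨y, P'.ι.isOpenEmbedding.injective ?_⟩
    rw [← hy, ← Scheme.Hom.comp_apply, hp']⟩
  have hrσ : Set.range σ ⊆ Set.range P'.ι := by
    rw [Scheme.Opens.range_ι]
    rintro _ ⟨t, rfl⟩
    obtain ⟨i, hi, z, hz⟩ := Set.mem_iUnion₂.1 (hs (Set.mem_univ t))
    refine ⟨Sigma.ι (fun t : s => Spec (C t)) ⟨i, hi⟩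
      ((pullback (f.resLE (V (a i)) (U (a i)) (hUV _)) (b.resLE (V (a i)) (D i) (hDV i))).isoSpec.hom z), ?_⟩
    rw [← Scheme.Hom.comp_apply, Sigma.ι_desc, ← Scheme.Hom.comp_apply, Iso.hom_inv_id_assoc, hz]
  let σ' := IsOpenImmersion.lift P'.ι σ hrσ
  let str : Spec (CommRingCat.of A) ⟶ SA := 𝟙 _
  let Pz : Over SA := Over.mk (P'.ι ≫ pullback.snd f b ≫ str)
  let g : Pz ⟶ TT str := Over.homMk (P'.ι ≫ pullback.snd f b) (Category.assoc _ _ _)
  let z₀ : T0 I str ⟶ Pz := Over.homMk σ' (by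
    show σ' ≫ P'.ι ≫ pullback.snd f b ≫ str = q ≫ str
    rw [IsOpenImmersion.lift_fac_assoc, pullback.lift_snd_assoc])
  let Ww : Over SA := Over.mk (p' ≫ Pz.hom)
  let p : Ww ⟶ Pz := Over.homMk p' rfl
  have hw : MoreMor.IsFormallySmoothHom (p ≫ g).left := by
    show MoreMor.IsFormallySmoothHom (p' ≫ P'.ι ≫ pullback.snd f b)
    have e : p' ≫ P'.ι ≫ pullback.snd f b = sigmaSpec C ≫
        Spec.map (CommRingCat.ofHom (Pi.ringHom fun t : s => (γ t).hom)) := by
      rw [← Category.assoc, hp']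
      refine Sigma.hom_ext _ _ fun t => ?_
      rw [Sigma.ι_desc_assoc, ι_sigmaSpec_assoc, ← Spec.map_comp, ← hγ t]
      rfl
    rw [e]
    refine SmoothLiftLib.comp (SmoothLiftLib.of_iso _) (fsHom_specMap _ ?_)
    exact inferInstanceAs (Algebra.FormallySmooth A (∀ t : s, C t))
  obtain ⟨l, hl1, hl2⟩ := exists_lift_of_chart ((yon SA).map g) hI ((yon SA).map z₀)
    (by
      rw [← Functor.map_comp]
      congr 1
      apply Over.OverMorphism.ext
      show σ' ≫ P'.ι ≫ pullback.snd f b = q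
      rw [IsOpenImmersion.lift_fac_assoc, pullback.lift_snd])
    ((yon SA).map p) (repWith_yon_map (P := @Etale) (g := p) ‹Etale p'›)
    (repWith_yon_map (P := @Surjective) (g := p) ‹Surjective p'›) (p ≫ g) ((yon SA).map_comp p g).symm hw
  obtain ⟨m, rfl⟩ := (yon SA).map_surjective l
  rw [← Functor.map_comp] at hl1 hl2
  have e1 : q ≫ m.left = σ' := congrArg CommaMorphism.left ((yon SA).map_injective hl1)
  have e2 : m.left ≫ P'.ι ≫ pullback.snd f b = 𝟙 SA :=
    congrArg CommaMorphism.left ((yon SA).map_injective (hl2.trans ((yon SA).map_id _).symm))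
  refine ⟨m.left ≫ P'.ι ≫ pullback.fst f b, ?_, ?_⟩
  · rw [← Category.assoc, e1, IsOpenImmersion.lift_fac_assoc, pullback.lift_fst]
  · rw [Category.assoc, Category.assoc, pullback.condition, ← Category.assoc P'.ι, ← Category.assoc m.left,
      e2]
    exact Category.id_comp b

end Groth.Agent.TorsorLift
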