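import Mathlib

/-!
Faithfully flat descent of modules in comodule form and Amitsur exactness in low degrees.
-/

set_option autoImplicit false

universe u

open TensorProduct

namespace Groth.Agent.TorsorLift

variable {A S : Type u} [CommRing A] [CommRing S] [Algebra A S] [Module.FaithfullyFlat A S]

/-- Membership in an image can be checked after a faithfully flat base change. -/
theorem mem_range_of_one_tmul {M N : Type u} [AddCommGroup M] [Module A M] [AddCommGroup N] [Module A N]
    (f : M →ₗ[A] N) (x : N) (h : (1 : S) ⊗ₜ[A] x ∈ LinearMap.range (LinearMap.lTensor S f)) :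
    x ∈ LinearMap.range f := by
  rw [← Submodule.Quotient.mk_eq_zero]
  apply Module.FaithfullyFlat.tensorProduct_mk_injective (A := A) (B := S) (N ⧸ LinearMap.range f)
  rw [map_zero, TensorProduct.mk_apply]
  obtain ⟨w, hw⟩ := h
  have : ((LinearMap.range f).mkQ.lTensor S) (LinearMap.lTensor S f w) = 0 := by
    rw [← LinearMap.comp_apply, ← LinearMap.lTensor_comp, LinearMap.range_mkQ_comp, LinearMap.lTensor_zero]
    rfl
  rwa [hw] at this

/-- The first Amitsur differential. -/
noncomputable def d1 (A S : Type u) [CommRing A] [CommRing S] [Algebra A S] : S →ₗ[A] S ⊗[A] S :=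
  (Algebra.TensorProduct.includeRight : S →ₐ[A] S ⊗[A] S).toLinearMap -
    (Algebra.TensorProduct.includeLeft : S →ₐ[A] S ⊗[A] S).toLinearMap

omit [Module.FaithfullyFlat A S] in
theorem d1_apply (t : S) : d1 A S t = (1 : S) ⊗ₜ[A] t - t ⊗ₜ[A] 1 := rfl

/-- A cocycle in `S ⊗ S` is a coboundary. -/
theorem exists_d1_eq (x : S ⊗[A] S)
    (h : Algebra.TensorProduct.map (AlgHom.id A S) (Algebra.TensorProduct.includeRight : S →ₐ[A] S ⊗[A] S) x =
      Algebra.TensorProduct.map (AlgHom.id A S) (Algebra.TensorProduct.includeLeft : S →ₐ[A] S ⊗[A] S) x +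
        (1 : S) ⊗ₜ[A] x) : ∃ y, d1 A S y = x := by
  refine mem_range_of_one_tmul (d1 A S) x ⟨x, ?_⟩
  have e : ∀ z : S ⊗[A] S, LinearMap.lTensor S (d1 A S) z =
      Algebra.TensorProduct.map (AlgHom.id A S) (Algebra.TensorProduct.includeRight : S →ₐ[A] S ⊗[A] S) z -
        Algebra.TensorProduct.map (AlgHom.id A S) (Algebra.TensorProduct.includeLeft : S →ₐ[A] S ⊗[A] S) z := by
    intro z
    induction z using TensorProduct.induction_on with
    | zero => simp only [map_zero, sub_zero]
    | tmul s t => simp [d1_apply, TensorProduct.tmul_sub]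
    | add a b ha hb => simp only [map_add, ha, hb]; abel
  rw [e, h, add_sub_cancel_left]

/-- A cocycle vanishing modulo `I` is the coboundary of an element vanishing modulo `I`. -/
theorem exists_mem_map_d1_eq (I : Ideal A) (x : S ⊗[A] S)
    (hx : x ∈ I.map (algebraMap A (S ⊗[A] S)))
    (h : Algebra.TensorProduct.map (AlgHom.id A S) (Algebra.TensorProduct.includeRight : S →ₐ[A] S ⊗[A] S) x =
      Algebra.TensorProduct.map (AlgHom.id A S) (Algebra.TensorProduct.includeLeft : S →ₐ[A] S ⊗[A] S) x +
        (1 : S) ⊗ₜ[A] x) : ∃ y ∈ I.map (algebraMap A S), d1 A S y = x := by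
  obtain ⟨y, hy⟩ := exists_d1_eq x h
  let J := I.map (algebraMap A S)
  let π : S →ₐ[A] S ⧸ J := Ideal.Quotient.mkₐ A J
  let ψ : S ⊗[A] S →ₐ[A] S ⊗[A] (S ⧸ J) := Algebra.TensorProduct.map (AlgHom.id A S) π
  have hψ : ψ x = 0 := by
    have : (I.map (algebraMap A (S ⊗[A] S))) ≤ RingHom.ker ψ := by
      refine Ideal.map_le_iff_le_comap.2 fun i hi => ?_
      show ψ (algebraMap A (S ⊗[A] S) i) = 0
      have : algebraMap A (S ⊗[A] S) i = (1 : S) ⊗ₜ[A] algebraMap A S i := by
        rw [Algebra.algebraMap_eq_smul_one, Algebra.algebraMap_eq_smul_one, TensorProduct.tmul_smul]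
        rfl
      rw [this, Algebra.TensorProduct.map_tmul,
        show π (algebraMap A S i) = 0 from Ideal.Quotient.eq_zero_iff_mem.2 (Ideal.mem_map_of_mem _ hi),
        TensorProduct.tmul_zero]
    exact this hx
  obtain ⟨a, ha⟩ : π y ∈ LinearMap.range (Algebra.linearMap A (S ⧸ J)) := by
    refine mem_range_of_one_tmul (S := S) _ _ ⟨y ⊗ₜ 1, ?_⟩
    rw [← hy, d1_apply, map_sub, Algebra.TensorProduct.map_tmul, Algebra.TensorProduct.map_tmul,
      sub_eq_zero, map_one] at hψ
    rw [LinearMap.lTensor_tmul, Algebra.linearMap_apply, map_one]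
    exact hψ.symm
  refine ⟨y - algebraMap A S a, ?_, ?_⟩
  · rw [← Ideal.Quotient.eq_zero_iff_mem]
    show π (y - algebraMap A S a) = 0
    rw [map_sub, AlgHom.commutes, sub_eq_zero]
    exact ha.symm
  · have : d1 A S (algebraMap A S a) = 0 := by
      rw [d1_apply, sub_eq_zero, Algebra.algebraMap_eq_smul_one, TensorProduct.tmul_smul,
        TensorProduct.smul_tmul']
    rw [map_sub, this, sub_zero, hy]

/-- Effective descent of modules, comodule form. -/
theorem bijective_of_coaction {P : Type u} [AddCommGroup P] [Module A P] [Module S P] [IsScalarTower A S P]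
    (a : P →ₗ[S] S ⊗[A] P)
    (hμ : ∀ x, LinearMap.liftBaseChange S (LinearMap.id : P →ₗ[A] P) (a x) = x)
    (hcoc : ∀ x, LinearMap.lTensor S (a.restrictScalars A) (a x) =
      LinearMap.lTensor S (TensorProduct.mk A S P 1) (a x)) :
    Function.Bijective (LinearMap.liftBaseChange S
      (LinearMap.ker (a.restrictScalars A - TensorProduct.mk A S P 1)).subtype) := by
  set d := a.restrictScalars A - TensorProduct.mk A S P 1
  set E := LinearMap.ker d
  have hex := Module.Flat.lTensor_exact S d.exact_subtype_ker_map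
  have hcomp : ∀ w : S ⊗[A] E, a (LinearMap.liftBaseChange S E.subtype w) = LinearMap.lTensor S E.subtype w := by
    intro w
    induction w using TensorProduct.induction_on with
    | zero => simp only [map_zero]
    | add x y hx hy => simp only [map_add, hx, hy]
    | tmul s e =>
      rw [LinearMap.liftBaseChange_tmul, map_smul, LinearMap.lTensor_tmul]
      have : a e.1 = (1 : S) ⊗ₜ[A] e.1 := sub_eq_zero.1 (show d e.1 = 0 from e.2)
      rw [Submodule.subtype_apply, this, TensorProduct.smul_tmul', smul_eq_mul, mul_one]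
  refine ⟨fun v w h => ?_, fun x => ?_⟩
  · apply Module.Flat.lTensor_preserves_injective_linearMap E.subtype E.injective_subtype
    rw [← hcomp, ← hcomp, h]
  · obtain ⟨w, hw⟩ : a x ∈ LinearMap.range (LinearMap.lTensor S E.subtype) := by
      rw [← LinearMap.exact_iff.1 hex, LinearMap.mem_ker]
      simp only [d, LinearMap.lTensor_sub, LinearMap.sub_apply]
      rw [hcoc, sub_self]
    refine ⟨w, ?_⟩
    rw [← hμ (LinearMap.liftBaseChange S E.subtype w), hcomp, hw, hμ]

end Groth.Agent.TorsorLift
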