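import Groth.Agent.TorsorLift.Chart

/-!
Formal smoothness of morphisms of algebraic spaces read on etale charts.
-/

set_option autoImplicit false
set_option backward.isDefEq.respectTransparency false
set_option backward.isDefEq.respectTransparency.types false

universe u

open CategoryTheory CategoryTheory.Limits AlgebraicGeometry Opposite

namespace Groth.Agent.TorsorLift

open _root_.AlgSp Groth.Agent.ASp Groth.Agent.Inf

variable {S : Scheme.{u}}

/-- Formally smooth morphisms of schemes are stable under base change. -/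
theorem fsHom_of_isPullback {X Y X' Y' : Scheme.{u}} {f : X ⟶ Y} {f' : X' ⟶ Y'} {g' : X' ⟶ X} {g : Y' ⟶ Y}
    (h : IsPullback g' f' f g) (hf : MoreMor.IsFormallySmoothHom f) : MoreMor.IsFormallySmoothHom f' := by
  intro A _ I hI a b w
  obtain ⟨l, h₁, h₂⟩ := hf A I hI (a ≫ g') (b ≫ g)
    (by rw [Category.assoc, h.w, ← Category.assoc, w, Category.assoc])
  refine ⟨h.lift l b h₂, ?_, h.lift_snd _ _ _⟩
  apply h.hom_ext
  · rw [Category.assoc, h.lift_fst, h₁]
  · rw [Category.assoc, h.lift_snd, w]

/-- Etale morphisms of schemes are formally smooth. -/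
theorem fsHom_of_etale {X Y : Scheme.{u}} (f : X ⟶ Y) (hf : Etale f) : MoreMor.IsFormallySmoothHom f :=
  fun B _ J hJ a b h => (((FEtHom.etale_iff f).1 hf).2 B J hJ a b h).exists

variable {F G : Sp S} {f : F ⟶ G}

/-- Formal smoothness is inherited by the charts. -/
theorem locP_of_isFormallySmoothMor (hf : IsFormallySmoothMor f) :
    LocP @MoreMor.IsFormallySmoothHom f := by
  intro U V a b h ha hb e A _ I hI a₀ b₀ w
  let str : Spec (CommRingCat.of A) ⟶ S := b₀ ≫ V.hom
  let u₀ : T0 I str ⟶ U := Over.homMk a₀ (by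
    show a₀ ≫ U.hom = Spec.map (CommRingCat.ofHom (Ideal.Quotient.mk I)) ≫ b₀ ≫ V.hom
    rw [← Over.w h, ← Category.assoc, ← w, Category.assoc])
  let v : TT str ⟶ V := Over.homMk b₀ rfl
  have huv : u₀ ≫ h = qI I str ≫ v := Over.OverMorphism.ext w.symm
  obtain ⟨l, hl1, hl2⟩ : ∃ l : (yon S).obj (TT str) ⟶ F,
      (yon S).map (qI I str) ≫ l = (yon S).map u₀ ≫ a ∧ l ≫ f = (yon S).map v ≫ b :=
    hf
      { A := A
        I := I
        sq_zero := hI
        str := str
        top := (yon S).map u₀ ≫ a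
        bot := (yon S).map v ≫ b
        comm := by
          rw [Category.assoc, e, ← Functor.map_comp_assoc, huv, Functor.map_comp, Category.assoc] }
  obtain ⟨u, ⟨hu1, hu2⟩, -⟩ := existsUnique_chart_lift hI ha l u₀ hl1.symm
  obtain ⟨v', -, hv'⟩ := existsUnique_chart_lift hI hb ((yon S).map v ≫ b) (qI I str ≫ v)
    (by rw [Functor.map_comp, Category.assoc])
  have huh : u ≫ h = v := (hv' (u ≫ h) ⟨by rw [← Category.assoc, hu1, huv],
    by rw [Functor.map_comp, Category.assoc, ← e, ← Category.assoc, hu2, hl2]⟩).trans (hv' v ⟨rfl, rfl⟩).symm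
  exact ⟨u.left, congrArg CommaMorphism.left hu1, congrArg CommaMorphism.left huh⟩

/-- Formal smoothness can be tested on one surjective chart. -/
theorem isFormallySmoothMor_of_chart {U V : Over S} (a : (yon S).obj U ⟶ F) (b : (yon S).obj V ⟶ G)
    (h : U ⟶ V) (ha : RepWith @Etale a) (has : RepWith @Surjective a) (hb : RepWith @Etale b)
    (hbs : RepWith @Surjective b) (e : a ≫ f = (yon S).map h ≫ b)
    (hh : MoreMor.IsFormallySmoothHom h.left) : IsFormallySmoothMor f := by
  intro sq
  obtain ⟨M, m₁, m₂, hM⟩ := exists_isPullback_yon hb.1 sq.bot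
  have hm₂ : Etale m₂.left := hb.2 _ _ _ hM
  have hm₂s : Surjective m₂.left := hbs.2 _ _ _ hM
  have hW := IsPullback.of_hasPullback h m₁
  have hw : MoreMor.IsFormallySmoothHom (pullback.snd h m₁ ≫ m₂).left :=
    SmoothLiftLib.comp (fsHom_of_isPullback (hW.map (Over.forget S)) hh) (fsHom_of_etale _ hm₂)
  have hZ := IsPullback.of_hasPullback f sq.bot
  have houter : IsPullback ((yon S).map (pullback.fst h m₁)) ((yon S).map (pullback.snd h m₁ ≫ m₂))
      (a ≫ f) sq.bot := by
    rw [e, Functor.map_comp]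
    exact (isPullback_yon_map hW).paste_vert hM
  let p : (yon S).obj (pullback h m₁) ⟶ pullback f sq.bot :=
    pullback.lift ((yon S).map (pullback.fst h m₁) ≫ a) ((yon S).map (pullback.snd h m₁ ≫ m₂))
      (by rw [Category.assoc]; exact houter.w)
  have hp2 : p ≫ pullback.snd f sq.bot = (yon S).map (pullback.snd h m₁ ≫ m₂) := pullback.lift_snd _ _ _
  have hp : IsPullback ((yon S).map (pullback.fst h m₁)) p a (pullback.fst f sq.bot) :=
    IsPullback.of_bot (by rw [hp2]; exact houter) (pullback.lift_fst _ _ _).symm hZ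
  obtain ⟨l, hl1, hl2⟩ := exists_lift_of_chart (pullback.snd f sq.bot) sq.sq_zero
    (pullback.lift sq.top ((yon S).map sq.j) sq.comm) (pullback.lift_snd _ _ _) p
    (repWith_of_isPullback hp ha) (repWith_of_isPullback hp has) _ hp2 hw
  refine ⟨l ≫ pullback.fst f sq.bot, ?_, ?_⟩
  · exact (Category.assoc _ _ _).symm.trans ((congrArg (· ≫ _) hl1).trans (pullback.lift_fst _ _ _))
  · rw [Category.assoc, pullback.condition, ← Category.assoc, hl2, Category.id_comp]

/-- Formally smooth morphisms of algebraic spaces are those with formally smooth charts. -/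
theorem isFormallySmoothMor_iff_locP (hF : IsAlgSpace F) (hG : IsAlgSpace G) :
    IsFormallySmoothMor f ↔ LocP @MoreMor.IsFormallySmoothHom f := by
  refine ⟨locP_of_isFormallySmoothMor, fun H => ?_⟩
  obtain ⟨U, V, p, q, h, hp, hps, hq, hqs, e⟩ := exists_chart (f := f) hF hG
  exact isFormallySmoothMor_of_chart p q h hp hps hq hqs e (H p q h hp hq e)

end Groth.Agent.TorsorLift
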