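import Groth.Agent.TorsorLift.Space

/-!
Formal smoothness is etale local: lifts exist when some etale chart is formally smooth.
-/

set_option autoImplicit false
set_option backward.isDefEq.respectTransparency false
set_option backward.isDefEq.respectTransparency.types false

universe u

open CategoryTheory CategoryTheory.Limits AlgebraicGeometry Opposite

namespace Groth.Agent.TorsorLift

open _root_.AlgSp Groth.Agent.ASp Groth.Agent.Inf

variable {S : Scheme.{u}} {A : Type u} [CommRing A] {str : Spec (CommRingCat.of A) ⟶ S}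

/-- The images of an etale family covering an affine scheme: finitely many suffice. -/
theorem exists_finite_range {T : Scheme.{u}} [CompactSpace T] {ι : Type u} {X : ι → Scheme.{u}}
    (f : ∀ i, X i ⟶ T) (hf : ∀ i, Etale (f i)) (h : ∀ t : T, ∃ i, t ∈ Set.range (f i)) :
    ∃ s : Finset ι, ∀ t : T, ∃ i ∈ s, t ∈ Set.range (f i) := by
  obtain ⟨s, hs⟩ := isCompact_univ.elim_finite_subcover (fun i => Set.range (f i))
    (fun i => haveI := hf i; (f i).isOpenMap.isOpen_range) (fun t _ => Set.mem_iUnion.2 (h t))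
  exact ⟨s, fun t => by simpa using Set.mem_iUnion₂.1 (hs (Set.mem_univ t))⟩

/-- A finite affine chart over a point. -/
theorem exists_affine_chart_at {Z : Sp S} {I : Ideal A} (z₀ : (yon S).obj (T0 I str) ⟶ Z) {W : Over S}
    (p : (yon S).obj W ⟶ Z) (hp : RepWith @Etale p) (hps : RepWith @Surjective p) (w : W ⟶ TT str)
    (hfs : MoreMor.IsFormallySmoothHom w.left) :
    ∃ (C : Type u) (_ : CommRing C) (_ : Algebra A C) (_ : Algebra.FormallySmooth A C) (e : TA str C ⟶ W),
      e ≫ w = cc (algebraMap A C) str ∧ RepWith @Etale ((yon S).map e ≫ p) ∧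
      ∃ (M : Over S) (a : M ⟶ TA str C) (b : M ⟶ T0 I str),
        IsPullback ((yon S).map a) ((yon S).map b) ((yon S).map e ≫ p) z₀ ∧
          Etale b.left ∧ Surjective b.left := by
  obtain ⟨M0, a0, b0, hM⟩ := exists_isPullback_yon hp.1 z₀
  haveI : Etale b0.left := hp.2 _ _ _ hM
  haveI : Surjective b0.left := hps.2 _ _ _ hM
  haveI : CompactSpace ↥(T0 I str).left :=
    inferInstanceAs (CompactSpace ↥(Spec (CommRingCat.of (A ⧸ I)) : Scheme.{u}))
  let 𝒰 := W.left.affineCover
  obtain ⟨t, ht⟩ := isCompact_univ.elim_finite_subcover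
    (fun i => b0.left '' (a0.left ⁻¹' Set.range (𝒰.f i)))
    (fun i => b0.left.isOpenMap _ ((𝒰.f i).isOpenEmbedding.isOpen_range.preimage a0.left.continuous))
    (fun x _ => by
      obtain ⟨y, hy⟩ := b0.left.surjective x
      exact Set.mem_iUnion.2 ⟨𝒰.idx (a0.left y), y, 𝒰.covers (a0.left y), hy⟩)
  let V : Scheme.{u} := ∐ fun i : t => 𝒰.X i
  let φ : V ⟶ W.left := Sigma.desc fun i : t => 𝒰.f i
  have hφ : Etale φ := by
    rw [IsZariskiLocalAtSource.iff_of_openCover (P := @Etale) (sigmaOpenCover fun i : t => 𝒰.X i)]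
    intro i
    have hU : Etale (𝒰.f (i : t).1) := by
      have : IsOpenImmersion (𝒰.f (i : t).1) := 𝒰.map_prop _
      infer_instance
    have e : (sigmaOpenCover fun i : t => 𝒰.X i).f i ≫ φ = 𝒰.f (i : t).1 := Sigma.ι_desc _ _
    rw [e]
    exact hU
  haveI : IsAffine V := inferInstanceAs (IsAffine (∐ fun i : t => 𝒰.X i))
  let C : CommRingCat.{u} := Γ(V, ⊤)
  let eV : Spec C ⟶ W.left := V.isoSpec.inv ≫ φ
  obtain ⟨γ, hγ⟩ : ∃ γ : CommRingCat.of A ⟶ C, Spec.map γ = eV ≫ w.left := Spec.map_surjective _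
  letI : Algebra A C := γ.hom.toAlgebra
  have heVe : Etale eV := by haveI := hφ; infer_instance
  haveI : Algebra.FormallySmooth A C := by
    refine SmoothLiftLib.formallySmooth_of_spec_map γ ?_
    rw [hγ]
    refine SmoothLiftLib.comp (fun B _ J hJ a b h => ?_) hfs
    exact (((FEtHom.etale_iff eV).1 heVe).2 B J hJ a b h).exists
  have halg : CommRingCat.ofHom (algebraMap A C) = γ := rfl
  let e : TA str C ⟶ W := Over.homMk eV (by
    show eV ≫ W.hom = Spec.map (CommRingCat.ofHom (algebraMap A C)) ≫ str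
    rw [halg, hγ, Category.assoc]
    exact congrArg (eV ≫ ·) (Over.w w).symm)
  have hew : e ≫ w = cc (algebraMap A C) str := by
    apply Over.OverMorphism.ext
    show eV ≫ w.left = Spec.map (CommRingCat.ofHom (algebraMap A C))
    rw [halg, hγ]
  have hpe : RepWith @Etale ((yon S).map e ≫ p) :=
    repWith_comp ((repWith_yon_map_iff _ _).2 heVe) hp
  obtain ⟨M1, a1, b1, hM1⟩ := exists_isPullback_yon hpe.1 z₀
  refine ⟨C, inferInstance, inferInstance, inferInstance, e, hew, hpe, M1, a1, b1, hM1, hpe.2 _ _ _ hM1,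
    ⟨fun x => ?_⟩⟩
  obtain ⟨i, hi, y, ⟨u, hu⟩, hy⟩ := Set.mem_iUnion₂.1 (ht (Set.mem_univ x))
  let v : ↥(Spec C : Scheme.{u}) := V.isoSpec.hom (Sigma.ι (fun i : t => 𝒰.X i) ⟨i, hi⟩ u)
  have hv : eV v = a0.left y := by
    show (V.isoSpec.inv ≫ φ) (V.isoSpec.hom (Sigma.ι (fun i : t => 𝒰.X i) ⟨i, hi⟩ u)) = _
    rw [← Scheme.Hom.comp_apply, Iso.hom_inv_id_assoc, ← Scheme.Hom.comp_apply]
    exact (congrArg (fun g : 𝒰.X i ⟶ W.left => g u) (Sigma.ι_desc (fun i : t => 𝒰.f i) ⟨i, hi⟩)).trans hu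
  obtain ⟨z, hz1, hz2⟩ := Scheme.Pullback.exists_preimage_pullback (f := eV) (g := a0.left) v y hv
  let P : Over S := Over.mk (pullback.snd eV a0.left ≫ M0.hom)
  let k₁ : P ⟶ TA str C := Over.homMk (pullback.fst eV a0.left) (by
    show pullback.fst eV a0.left ≫ (TA str C).hom = pullback.snd eV a0.left ≫ M0.hom
    rw [← Over.w a0, ← pullback.condition_assoc]
    exact congrArg (pullback.fst eV a0.left ≫ ·) (Over.w e).symm)
  let k₂ : P ⟶ M0 := Over.homMk (pullback.snd eV a0.left) rfl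
  have hk : k₁ ≫ e = k₂ ≫ a0 := Over.OverMorphism.ext pullback.condition
  obtain ⟨m, hm⟩ := (yon S).map_surjective (hM1.lift ((yon S).map k₁) ((yon S).map (k₂ ≫ b0)) (by
    rw [← Functor.map_comp_assoc, hk, Functor.map_comp, Functor.map_comp, Category.assoc, Category.assoc,
      hM.w]))
  have hm2 : m ≫ b1 = k₂ ≫ b0 := (yon S).map_injective (by rw [Functor.map_comp, hm, hM1.lift_snd])
  refine ⟨m.left z, ?_⟩
  rw [← Scheme.Hom.comp_apply, ← Over.comp_left, hm2, ← hy]
  show b0.left (pullback.snd eV a0.left z) = _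
  rw [hz2]

/-- Lifts exist if some etale chart is formally smooth. -/
theorem exists_lift_of_chart {Z : Sp S} (g : Z ⟶ (yon S).obj (TT str)) {I : Ideal A} (hI : I ^ 2 = ⊥)
    (z₀ : (yon S).obj (T0 I str) ⟶ Z) (hz₀ : z₀ ≫ g = (yon S).map (qI I str)) {W : Over S}
    (p : (yon S).obj W ⟶ Z) (hp : RepWith @Etale p) (hps : RepWith @Surjective p) (w : W ⟶ TT str)
    (hw : p ≫ g = (yon S).map w) (hfs : MoreMor.IsFormallySmoothHom w.left) :
    ∃ l : (yon S).obj (TT str) ⟶ Z, (yon S).map (qI I str) ≫ l = z₀ ∧ l ≫ g = 𝟙 _ := by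
  classical
  obtain ⟨C, _, _, _, e, hew, hpe, M, a, b, hM, hbe, hbs⟩ := exists_affine_chart_at z₀ p hp hps w hfs
  have hpg : ((yon S).map e ≫ p) ≫ g = (yon S).map (cc (algebraMap A C) str) := by
    rw [Category.assoc, hw, ← Functor.map_comp, hew]
  have hab : a ≫ cc (algebraMap A C) str = b ≫ qI I str := by
    apply (yon S).map_injective
    rw [Functor.map_comp, Functor.map_comp, ← hpg, ← hz₀, ← Category.assoc, hM.w, Category.assoc]
  obtain ⟨ι, R, iR, φ, uu, hφ, hcov, -, huu⟩ := exists_pieces hI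
    (repWith_yon_map (P := @Etale) hbe) (repWith_yon_map (P := @Surjective) hbs) (𝟙 ((yon S).obj (T0 I str)))
  have huu' : ∀ i, uu i ≫ b = cc0 (φ i) I str := fun i => (yon S).map_injective (by
    rw [Functor.map_comp]
    exact (huu i).trans (Category.comp_id _))
  haveI : CompactSpace ↥(TT str).left := inferInstanceAs (CompactSpace ↥(Spec (CommRingCat.of A) : Scheme.{u}))
  obtain ⟨s, hs⟩ := exists_finite_range (fun i => (cc (φ i) str).left) hφ hcov
  letI : ∀ i : s, Algebra A (R i.1) := fun i => (φ i.1).toAlgebra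
  haveI : ∀ i : s, Algebra.Etale A (R i.1) := fun i =>
    (HasRingHomProperty.Spec_iff (P := @Etale) (φ := CommRingCat.ofHom (φ i.1))).1 (hφ i.1)
  have hlift : ∀ i : s, ∃ c : C →ₐ[A] R i.1,
      (uu i.1 ≫ a).left = Spec.map (CommRingCat.ofHom ((Ideal.Quotient.mk (I.map (φ i.1))).comp c.toRingHom)) := by
    intro i
    let v : Spec (CommRingCat.of (R i.1 ⧸ I.map (φ i.1))) ⟶ Spec (CommRingCat.of C) := (uu i.1 ≫ a).left
    obtain ⟨ψ, hψ⟩ := Spec.map_surjective v
    have h1 : (uu i.1 ≫ a) ≫ cc (algebraMap A C) str = qI _ _ ≫ cc (φ i.1) str := by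
      rw [Category.assoc, hab, ← Category.assoc, huu', cc0_qI]
    have h2 : v ≫ Spec.map (CommRingCat.ofHom (algebraMap A C)) =
        Spec.map (CommRingCat.ofHom (Ideal.Quotient.mk (I.map (φ i.1)))) ≫
          Spec.map (CommRingCat.ofHom (φ i.1)) := congrArg CommaMorphism.left h1
    rw [← hψ, ← Spec.map_comp, ← Spec.map_comp] at h2
    let σ : C →ₐ[A] R i.1 ⧸ I.map (φ i.1) :=
      { ψ.hom with commutes' := fun x => congr($(Spec.map_injective h2).hom x) }
    obtain ⟨c, hc⟩ := Algebra.FormallySmooth.exists_lift (I.map (φ i.1)) ⟨2, map_sq_zero (φ i.1) hI⟩ σ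
    refine ⟨c, ?_⟩
    show v = _
    rw [← hψ]
    congr 1
    exact CommRingCat.hom_ext (RingHom.ext fun x => (AlgHom.congr_fun hc x).symm)
  choose c hc using hlift
  let u : C →ₐ[A] (∀ i : s, R i.1) := Pi.algHom A _ c
  have hsurj : Function.Surjective (Spec.map (CommRingCat.ofHom (algebraMap A (∀ i : s, R i.1)))) := fun x => by
    obtain ⟨i, hi, z, hz⟩ := hs x
    refine ⟨Spec.map (CommRingCat.ofHom (Pi.evalRingHom (fun j : s => R j.1) ⟨i, hi⟩)) z, ?_⟩
    rw [← Scheme.Hom.comp_apply, ← Spec.map_comp]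
    exact hz
  refine exists_lift_of_cover g hI z₀ hz₀ ((yon S).map e ≫ p) hpe hpg hsurj u ?_
  let J := I.map (algebraMap A (∀ i : s, R i.1))
  let str' := strR (algebraMap A (∀ i : s, R i.1)) str
  let ev : ∀ i : s, (∀ j : s, R j.1) →+* R i.1 := fun i => Pi.evalRingHom (fun j : s => R j.1) i
  have hev : ∀ i, (ev i).comp (algebraMap A (∀ j : s, R j.1)) = φ i.1 := fun i => rfl
  have hoi : ∀ i, IsOpenImmersion (cc (ev i) str').left := fun i => by
    show IsOpenImmersion (Spec.map (CommRingCat.ofHom (Pi.evalRingHom (fun j : s => R j.1) i)))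
    rw [← ι_sigmaSpec (fun j : s => CommRingCat.of (R j.1)) i]
    infer_instance
  have hle : ∀ i, I.map (φ i.1) ≤ (J.map (ev i)).comap (RingHom.id (R i.1)) := fun i => by
    rw [Ideal.comap_id, Ideal.map_map, hev]
  let q : ∀ i : s, R i.1 ⧸ I.map (φ i.1) →+* R i.1 ⧸ J.map (ev i) := fun i =>
    Ideal.quotientMap _ (RingHom.id _) (hle i)
  have hq : ∀ i, Spec.map (CommRingCat.ofHom (q i)) ≫ Spec.map (CommRingCat.ofHom (Ideal.Quotient.mk (I.map (φ i.1)))) =
      Spec.map (CommRingCat.ofHom (Ideal.Quotient.mk (J.map (ev i)))) := fun i => by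
    rw [← Spec.map_comp, ← CommRingCat.ofHom_comp, Ideal.quotientMap_comp_mk, RingHom.comp_id]
  have hkw : ∀ i, Spec.map (CommRingCat.ofHom (q i)) ≫ Spec.map (CommRingCat.ofHom (Ideal.Quotient.mk (I.map (φ i.1)))) ≫
      Spec.map (CommRingCat.ofHom (φ i.1)) ≫ str =
        Spec.map (CommRingCat.ofHom (Ideal.Quotient.mk (J.map (ev i)))) ≫
          Spec.map (CommRingCat.ofHom (ev i)) ≫ Spec.map (CommRingCat.ofHom (algebraMap A (∀ j : s, R j.1))) ≫ str := fun i => by
    rw [← Category.assoc, hq i, ← Spec.map_comp_assoc (CommRingCat.ofHom (algebraMap A (∀ j : s, R j.1))),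
      ← CommRingCat.ofHom_comp, hev]
  let k : ∀ i : s, T0 (J.map (ev i)) (strR (ev i) str') ⟶ T0 (I.map (φ i.1)) (strR (φ i.1) str) := fun i =>
    Over.homMk (Spec.map (CommRingCat.ofHom (q i))) (hkw i)
  have E1 : ∀ i, k i ≫ cc0 (φ i.1) I str = cc0 (ev i) J str' ≫ cc0 (algebraMap A (∀ j : s, R j.1)) I str := by
    intro i
    apply Over.OverMorphism.ext
    show Spec.map (CommRingCat.ofHom (q i)) ≫
        Spec.map (CommRingCat.ofHom (Ideal.quotientMap (I.map (φ i.1)) (φ i.1) Ideal.le_comap_map)) =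
      Spec.map (CommRingCat.ofHom (Ideal.quotientMap (J.map (ev i)) (ev i) Ideal.le_comap_map)) ≫
        Spec.map (CommRingCat.ofHom (Ideal.quotientMap J (algebraMap A (∀ j : s, R j.1)) Ideal.le_comap_map))
    rw [← Spec.map_comp, ← Spec.map_comp, ← CommRingCat.ofHom_comp, ← CommRingCat.ofHom_comp]
    congr 2
    exact Ideal.Quotient.ringHom_ext (RingHom.ext fun x => rfl)
  have E2 : ∀ i, k i ≫ uu i.1 ≫ a = cc0 (ev i) J str' ≫ qI J str' ≫ mor str u := by
    intro i
    apply Over.OverMorphism.ext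
    show Spec.map (CommRingCat.ofHom (q i)) ≫ (uu i.1 ≫ a).left =
      Spec.map (CommRingCat.ofHom (Ideal.quotientMap (J.map (ev i)) (ev i) Ideal.le_comap_map)) ≫
        Spec.map (CommRingCat.ofHom (Ideal.Quotient.mk J)) ≫ Spec.map (CommRingCat.ofHom u.toRingHom)
    rw [hc i, ← Spec.map_comp, ← Spec.map_comp, ← Spec.map_comp]
    congr 1
  have hpb := fun i => isPullback_cc0 (ev i) J str'
  refine hom_ext_fppf (c := fun i : s => cc0 (ev i) J str')
    (fun i => MorphismProperty.of_isPullback (P := @Flat) (hpb i) (haveI := hoi i; inferInstance))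
    (fun i => MorphismProperty.of_isPullback (P := @LocallyOfFinitePresentation) (hpb i)
      (haveI := hoi i; inferInstance)) (fun t => ?_) fun i => ?_
  · let y : ↥(Spec (CommRingCat.of (∀ i : s, R i.1)) : Scheme.{u}) := (qI J str').left t
    haveI : IsIso (sigmaSpec fun i : s => CommRingCat.of (R i.1)) := inferInstance
    obtain ⟨y', hy'⟩ := (sigmaSpec fun i : s => CommRingCat.of (R i.1)).surjective y
    obtain ⟨⟨i, z⟩, rfl⟩ := (sigmaMk fun i : s => Spec (CommRingCat.of (R i.1))).surjective y'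
    rw [sigmaMk_mk, ← Scheme.Hom.comp_apply, ι_sigmaSpec] at hy'
    obtain ⟨z', hz'1, hz'2⟩ := Scheme.Pullback.exists_preimage_pullback
      (f := (cc (ev i) str').left) (g := (qI J str').left) z t hy'
    refine ⟨i, (hpb i).isoPullback.inv z', ?_⟩
    rw [← Scheme.Hom.comp_apply, (hpb i).isoPullback_inv_snd, hz'2]
  · show (yon S).map (cc0 (ev i) J str') ≫ (yon S).map (qI J str') ≫ (yon S).map (mor str u) ≫
        (yon S).map e ≫ p = (yon S).map (cc0 (ev i) J str') ≫
          (yon S).map (cc0 (algebraMap A (∀ j : s, R j.1)) I str) ≫ z₀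
    rw [← Functor.map_comp_assoc, ← Functor.map_comp_assoc, ← Functor.map_comp_assoc,
      Category.assoc (cc0 (ev i) J str'), ← E2 i]
    conv_rhs => rw [← Functor.map_comp_assoc, ← E1 i]
    rw [Functor.map_comp, Functor.map_comp, Functor.map_comp, Functor.map_comp, Category.assoc, Category.assoc,
      Category.assoc, hM.w, ← Functor.map_comp_assoc (yon S) (uu i.1), huu', Category.assoc]

end Groth.Agent.TorsorLift
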