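import Groth.Agent.TorsorLift.Main

/-!
The coaction on differentials attached to local lifts.
-/

set_option autoImplicit false
set_option maxHeartbeats 1000000

universe u v

open TensorProduct TrivSqZeroExt

namespace Groth.Agent.TorsorLift

variable {A : Type u} [CommRing A]

/-- The action of `S ⊗ T` on `S ⊗ M`. -/
noncomputable def act (A S T M : Type u) [CommRing A] [CommRing S] [Algebra A S] [CommRing T] [Algebra A T]
    [AddCommGroup M] [Module A M] [Module T M] [IsScalarTower A T M] :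
    S ⊗[A] T →ₐ[A] Module.End A (S ⊗[A] M) :=
  Module.endTensorEndAlgHom.comp (Algebra.TensorProduct.map (Algebra.lsmul A A S) (Algebra.lsmul A A M))

theorem act_tmul {S T M : Type u} [CommRing S] [Algebra A S] [CommRing T] [Algebra A T] [AddCommGroup M]
    [Module A M] [Module T M] [IsScalarTower A T M] (s r : S) (t : T) (m : M) :
    act A S T M (s ⊗ₜ t) (r ⊗ₜ m) = (s * r) ⊗ₜ (t • m) := rfl

/-- The module structure given by `act`. -/
@[instance_reducible]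
noncomputable def actModule (A S T M : Type u) [CommRing A] [CommRing S] [Algebra A S] [CommRing T]
    [Algebra A T] [AddCommGroup M] [Module A M] [Module T M] [IsScalarTower A T M] :
    Module (S ⊗[A] T) (S ⊗[A] M) :=
  Module.compHom _ (act A S T M).toRingHom

theorem actModule_tower (A S T M : Type u) [CommRing A] [CommRing S] [Algebra A S] [CommRing T]
    [Algebra A T] [AddCommGroup M] [Module A M] [Module T M] [IsScalarTower A T M] :
    letI := actModule A S T M; IsScalarTower A (S ⊗[A] T) (S ⊗[A] M) := by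
  letI := actModule A S T M
  refine IsScalarTower.of_algebraMap_smul fun a m => ?_
  show act A S T M (algebraMap A _ a) m = a • m
  rw [AlgHom.commutes]
  rfl

theorem ker_fst_sq {B M : Type u} [CommRing B] [AddCommGroup M] [Module B M] [Module Bᵐᵒᵖ M]
    [IsCentralScalar B M] {J : Ideal B} (hJ : J ^ 2 = ⊥) (hJM : ∀ j ∈ J, ∀ m : M, j • m = 0) :
    (J.comap (TrivSqZeroExt.fstHom B B M).toRingHom) ^ 2 = ⊥ := by
  rw [eq_bot_iff, pow_two, Ideal.mul_le]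
  intro x hx y hy
  rw [Ideal.mem_bot]
  refine TrivSqZeroExt.ext ?_ ?_
  · have : x.fst * y.fst ∈ J ^ 2 := by rw [pow_two]; exact Ideal.mul_mem_mul hx hy
    rw [hJ, Ideal.mem_bot] at this
    rw [TrivSqZeroExt.fst_mul, this]
    rfl
  · rw [TrivSqZeroExt.snd_mul, hJM x.fst hx, op_smul_eq_smul, hJM y.fst hy, add_zero]
    rfl

theorem map_smul_eq_zero {B M : Type u} [CommRing B] [Algebra A B] [AddCommGroup M] [Module A M]
    [Module B M] [IsScalarTower A B M] {I : Ideal A} (h : ∀ i ∈ I, ∀ m : M, i • m = 0) :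
    ∀ j ∈ I.map (algebraMap A B), ∀ m : M, j • m = 0 := by
  intro j hj
  induction hj using Submodule.span_induction with
  | mem x hx => obtain ⟨i, hi, rfl⟩ := hx; intro m; rw [algebraMap_smul]; exact h i hi m
  | zero => exact fun m => zero_smul _ m
  | add x y _ _ hx hy => intro m; rw [add_smul, hx, hy, add_zero]
  | smul c x _ hx => intro m; rw [smul_eq_mul, mul_smul, hx, smul_zero]

theorem tensor_smul_eq_zero {S M : Type u} [AddCommGroup S] [Module A S] [AddCommGroup M] [Module A M]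
    {I : Ideal A} (h : ∀ i ∈ I, ∀ m : M, i • m = 0) : ∀ i ∈ I, ∀ m : S ⊗[A] M, i • m = 0 := by
  intro i hi m
  induction m using TensorProduct.induction_on with
  | zero => exact smul_zero _
  | tmul s x => rw [← TensorProduct.tmul_smul, h i hi, TensorProduct.tmul_zero]
  | add x y hx hy => rw [smul_add, hx, hy, add_zero]

theorem hom_mem_map {B B' : Type u} [CommRing B] [Algebra A B] [CommRing B'] [Algebra A B'] {I : Ideal A}
    (g : B →ₐ[A] B') {x : B} (hx : x ∈ I.map (algebraMap A B)) : g x ∈ I.map (algebraMap A B') := by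
  have : I.map (algebraMap A B) ≤ (I.map (algebraMap A B')).comap g := by
    refine Ideal.map_le_iff_le_comap.2 fun i hi => ?_
    show g (algebraMap A B i) ∈ I.map (algebraMap A B')
    rw [g.commutes]
    exact Ideal.mem_map_of_mem _ hi
  exact this hx

variable {C A' : Type u} [CommRing C] [CommRing A'] [Algebra A C] [Algebra A A']
  [Algebra C A'] [IsScalarTower A C A'] (I : Ideal A) (P : Pts.{u, v} A C)

/-- The transport of the universal derivation, as data. -/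
structure Coact where
  /-- the lift of the second point near the first -/
  v : C →ₐ[A] A' ⊗[A] A'
  /-- its derivation part -/
  θv : PQ C A' I →ₗ[A] A' ⊗[A] A'
  /-- the coaction -/
  a : PQ C A' I →ₗ[A'] A' ⊗[A] PQ C A' I
  θv_smul : ∀ (s : A') p, θv (s • p) = (s ⊗ₜ[A] (1 : A')) * θv p
  θv_mem : ∀ p, θv p ∈ I.map (algebraMap A (A' ⊗[A] A'))
  v_eq : ∀ c, v c = algebraMap C A' c ⊗ₜ[A] (1 : A') + θv (dd A' I c)
  key : ∀ (B : Type u) [CommRing B] [Algebra A B] (N : Ideal B), N ^ 2 = ⊥ →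
    I.map (algebraMap A B) ≤ N → ∀ (φ : A' ⊗[A] A' →ₐ[A] B) (θ : PQ C A' I →ₗ[A] B),
    (∀ (s : A') p, θ (s • p) = φ ((1 : A') ⊗ₜ s) * θ p) → (∀ p, θ p ∈ N) →
    ∀ (g : A' →ₐ[A] B), (∀ s, g s = φ (s ⊗ₜ 1)) → ∀ x y : C →ₐ[A] B,
    (∀ c, x c = φ ((1 : A') ⊗ₜ algebraMap C A' c) + θ (dd A' I c)) → IsTrans P N g x y →
    ∀ c, y c = φ (v c) + LinearMap.mul' A B
      (TensorProduct.map g.toLinearMap θ (a (dd A' I c)))

theorem exists_coact (hI : I ^ 2 = ⊥)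
    (z₀ : P.F (A ⧸ I)) (q : A ⧸ I →ₐ[A] A' ⧸ I.map (algebraMap A A'))
    (hu : P.map q z₀ = P.pt ((Ideal.Quotient.mkₐ A (I.map (algebraMap A A'))).comp
      (IsScalarTower.toAlgHom A C A'))) : Nonempty (Coact (C := C) (A' := A') I P) := by
  have hJsq : ∀ (B : Type u) [CommRing B] [Algebra A B], (I.map (algebraMap A B)) ^ 2 = ⊥ := fun B _ _ => by
    rw [← Ideal.map_pow, hI, Ideal.map_bot]
  have hIP' : ∀ j ∈ I.map (algebraMap A A'), ∀ p : PQ C A' I, j • p = 0 := fun j hj p => by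
    obtain ⟨w, rfl⟩ := Submodule.Quotient.mk_surjective _ p
    rw [← Submodule.Quotient.mk_smul, Submodule.Quotient.mk_eq_zero]
    exact Submodule.smul_mem_smul hj Submodule.mem_top
  have hIP : ∀ i ∈ I, ∀ p : PQ C A' I, i • p = 0 := fun i hi p => by
    rw [← algebraMap_smul A' i p]; exact hIP' _ (Ideal.mem_map_of_mem _ hi) p
  -- the double cover
  letI : Module (A' ⊗[A] A') (A' ⊗[A] PQ C A' I) := actModule A A' A' (PQ C A' I)
  haveI : IsScalarTower A (A' ⊗[A] A') (A' ⊗[A] PQ C A' I) := actModule_tower A A' A' (PQ C A' I)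
  letI : Module (A' ⊗[A] A')ᵐᵒᵖ (A' ⊗[A] PQ C A' I) :=
    Module.compHom _ ((RingHom.id (A' ⊗[A] A')).fromOpposite mul_comm)
  haveI : IsCentralScalar (A' ⊗[A] A') (A' ⊗[A] PQ C A' I) := ⟨fun _ _ => rfl⟩
  have hIM2 : ∀ i ∈ I, ∀ m : A' ⊗[A] PQ C A' I, i • m = 0 := tensor_smul_eq_zero hIP
  have hleft : ∀ (s : A') (m : A' ⊗[A] PQ C A' I), (s ⊗ₜ[A] (1 : A')) • m = s • m := fun s m => by
    induction m using TensorProduct.induction_on with
    | zero => rw [smul_zero, smul_zero]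
    | tmul r x =>
      show act A A' A' (PQ C A' I) (s ⊗ₜ 1) (r ⊗ₜ x) = _
      rw [act_tmul, one_smul, TensorProduct.smul_tmul', smul_eq_mul]
    | add x y hx hy => rw [smul_add, smul_add, hx, hy]
  let B2 := TrivSqZeroExt (A' ⊗[A] A') (A' ⊗[A] PQ C A' I)
  let J2 : Ideal (A' ⊗[A] A') := I.map (algebraMap A (A' ⊗[A] A'))
  let fst2 : B2 →ₐ[A] A' ⊗[A] A' := TrivSqZeroExt.fstHom A (A' ⊗[A] A') (A' ⊗[A] PQ C A' I)
  let inl2 : A' ⊗[A] A' →ₐ[A] B2 := TrivSqZeroExt.inlAlgHom A (A' ⊗[A] A') (A' ⊗[A] PQ C A' I)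
  let N2 : Ideal B2 := J2.comap fst2.toRingHom
  have hN2 : N2 ^ 2 = ⊥ := ker_fst_sq (hJsq _) (map_smul_eq_zero hIM2)
  have hIN2 : I.map (algebraMap A B2) ≤ N2 := Ideal.map_le_iff_le_comap.2 fun i hi => by
    show fst2 (algebraMap A B2 i) ∈ J2
    rw [AlgHom.commutes]
    exact Ideal.mem_map_of_mem _ hi
  let θ2 : PQ C A' I →ₗ[A] B2 :=
    ((TrivSqZeroExt.inrHom (A' ⊗[A] A') (A' ⊗[A] PQ C A' I)).restrictScalars A).comp
      (TensorProduct.mk A A' (PQ C A' I) 1)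
  have hθ2 : ∀ p, θ2 p = inr ((1 : A') ⊗ₜ p) := fun p => rfl
  obtain ⟨X, hX⟩ := exists_ofTheta I (inl2.comp Algebra.TensorProduct.includeRight) θ2
    (fun s p => by
      rw [hθ2, hθ2]
      show _ = inl ((1 : A') ⊗ₜ[A] s) * inr ((1 : A') ⊗ₜ p)
      rw [TrivSqZeroExt.inl_mul_inr]
      congr 1
      show _ = act A A' A' (PQ C A' I) ((1 : A') ⊗ₜ s) ((1 : A') ⊗ₜ p)
      rw [act_tmul, one_mul])
    (fun p p' => by rw [hθ2, hθ2, TrivSqZeroExt.inr_mul_inr])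
  obtain ⟨Y, hY⟩ := exists_isTrans I P z₀ q hu N2 hN2 hIN2
    (inl2.comp Algebra.TensorProduct.includeLeft) (inl2.comp Algebra.TensorProduct.includeRight) X
    (fun c => by
      rw [hX, add_sub_cancel_left]
      show fst2 (θ2 _) ∈ J2
      rw [show fst2 (θ2 (dd A' I c)) = 0 from rfl]
      exact J2.zero_mem)
  obtain ⟨Θ, hΘ, hΘN, hΘd⟩ := exists_theta I (inl2.comp Algebra.TensorProduct.includeLeft) N2 hN2 hIN2 Y hY.1
  let v : C →ₐ[A] A' ⊗[A] A' := fst2.comp Y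
  let θv : PQ C A' I →ₗ[A] A' ⊗[A] A' := fst2.toLinearMap.comp Θ
  let aA : PQ C A' I →ₗ[A] A' ⊗[A] PQ C A' I :=
    ((TrivSqZeroExt.sndHom (A' ⊗[A] A') (A' ⊗[A] PQ C A' I)).restrictScalars A).comp Θ
  have haA : ∀ (s : A') p, aA (s • p) = s • aA p := fun s p => by
    show (Θ (s • p)).snd = s • (Θ p).snd
    rw [hΘ]
    show (inl (s ⊗ₜ[A] (1 : A')) * Θ p).snd = _
    rw [TrivSqZeroExt.snd_mul, TrivSqZeroExt.snd_inl, TrivSqZeroExt.fst_inl, smul_zero, add_zero, hleft]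
  let a : PQ C A' I →ₗ[A'] A' ⊗[A] PQ C A' I :=
    { toFun := aA, map_add' := map_add aA, map_smul' := haA }
  have hθv : ∀ (s : A') p, θv (s • p) = (s ⊗ₜ[A] (1 : A')) * θv p := fun s p => by
    show fst2 (Θ (s • p)) = _ * fst2 (Θ p)
    rw [hΘ, map_mul]
    rfl
  have hθvJ : ∀ p, θv p ∈ J2 := hΘN
  have hvd : ∀ c, v c = algebraMap C A' c ⊗ₜ[A] (1 : A') + θv (dd A' I c) := fun c => by
    show fst2 (Y c) = _ + fst2 (Θ (dd A' I c))
    rw [hΘd, map_sub, add_sub_left_comm]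
    exact (add_zero _).symm.trans (congrArg _ (sub_self _).symm)
  have had : ∀ c, a (dd A' I c) = (Y c).snd := fun c => by
    show (Θ (dd A' I c)).snd = _
    rw [hΘd, TrivSqZeroExt.snd_sub]
    exact sub_eq_self.2 rfl
  refine ⟨{ v := v, θv := θv, a := a, θv_smul := hθv, θv_mem := hθvJ, v_eq := hvd, key := ?_ }⟩
  intro B _ _ N hN hIN φ θ hθ hθN g hg x y hx hy c
  let lam : A' ⊗[A] PQ C A' I →ₗ[A] B :=
    (LinearMap.mul' A B).comp (TensorProduct.map g.toLinearMap θ)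
  have hlam : ∀ r p, lam (r ⊗ₜ p) = g r * θ p := fun r p => rfl
  have hlamN : ∀ m, lam m ∈ N := fun m => by
    induction m using TensorProduct.induction_on with
    | zero => rw [map_zero]; exact N.zero_mem
    | tmul r p => rw [hlam]; exact N.mul_mem_left _ (hθN p)
    | add x y hx hy => rw [map_add]; exact N.add_mem hx hy
  have hsm : ∀ (w : A' ⊗[A] A') m, lam (w • m) = φ w * lam m := by
    intro w m
    induction m using TensorProduct.induction_on with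
    | zero => rw [smul_zero, map_zero, mul_zero]
    | add x y hx hy => rw [smul_add, map_add, map_add, hx, hy, mul_add]
    | tmul r p =>
      induction w using TensorProduct.induction_on with
      | zero => rw [zero_smul, map_zero, map_zero, zero_mul]
      | add x y hx hy => rw [add_smul, map_add, map_add, hx, hy, add_mul]
      | tmul s t =>
        show lam (act A A' A' (PQ C A' I) (s ⊗ₜ t) (r ⊗ₜ p)) = _
        rw [act_tmul, hlam, hlam, hθ, map_mul, hg, hg,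
          show (s ⊗ₜ[A] t : A' ⊗[A] A') = (s ⊗ₜ 1) * ((1 : A') ⊗ₜ t) by
            rw [Algebra.TensorProduct.tmul_mul_tmul, mul_one, one_mul], map_mul]
        ring
  have hprod : ∀ m m', lam m * lam m' = 0 := fun m m' => by
    have : lam m * lam m' ∈ N ^ 2 := by rw [pow_two]; exact Ideal.mul_mem_mul (hlamN m) (hlamN m')
    rwa [hN] at this
  let h : B2 →ₐ[A] B := TrivSqZeroExt.lift φ lam hprod hsm
    (fun r m => by rw [op_smul_eq_smul, hsm, mul_comm])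
  have hh : ∀ b : B2, h b = φ b.fst + lam b.snd := fun b => rfl
  have hhN : ∀ b ∈ N2, h b ∈ N := by
    intro b hb
    rw [hh]
    exact N.add_mem (hIN (hom_mem_map φ hb)) (hlamN _)
  have hX' : h.comp X = x := AlgHom.ext fun d => by
    rw [AlgHom.comp_apply, hX, map_add, hx, hh, hh]
    show φ ((1 : A') ⊗ₜ algebraMap C A' d) + lam 0 + (φ 0 + lam ((1 : A') ⊗ₜ dd A' I d)) = _
    rw [map_zero, add_zero, map_zero, zero_add, hlam, map_one, one_mul]
  have t := isTrans_map P h hhN (g' := g) (fun s => by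
    rw [hh, hg]
    show φ (s ⊗ₜ 1) + lam 0 - φ (s ⊗ₜ 1) ∈ N
    rw [map_zero, add_zero, sub_self]
    exact N.zero_mem) hY
  rw [hX'] at t
  rw [isTrans_unique P hN hy t, AlgHom.comp_apply, hh, had]
  rfl

variable {I P}

/-- The action on coefficients in a trivial extension. -/
theorem exists_lam {T M : Type u} [CommRing T] [Algebra A T] [AddCommGroup M] [Module A M] [Module T M]
    [IsScalarTower A T M] (g : A' →ₐ[A] T) (θ : PQ C A' I →ₗ[A] M) :
    ∃ lam : A' ⊗[A] PQ C A' I →ₗ[A] M, ∀ s p, lam (s ⊗ₜ p) = g s • θ p :=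
  ⟨TensorProduct.lift ((LinearMap.compl₂ (Algebra.lsmul A A M).toLinearMap θ).comp g.toLinearMap),
    fun s p => rfl⟩

theorem Coact.map_self (K : Coact (C := C) (A' := A') I P) (hI : I ^ 2 = ⊥)
    {T M : Type u} [CommRing T] [Algebra A T] [AddCommGroup M] [Module A M] [Module T M]
    [IsScalarTower A T M] (hM : ∀ i ∈ I, ∀ m : M, i • m = 0)
    (φ : A' ⊗[A] A' →ₐ[A] T) (g : A' →ₐ[A] T) (h₁ : ∀ s, φ (s ⊗ₜ 1) = g s)
    (h₂ : ∀ s, φ ((1 : A') ⊗ₜ s) = g s)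
    (θ : PQ C A' I →ₗ[A] M) (hθ : ∀ (s : A') p, θ (s • p) = g s • θ p)
    (lam : A' ⊗[A] PQ C A' I →ₗ[A] M) (hlam : ∀ s p, lam (s ⊗ₜ p) = g s • θ p) :
    ∀ c, lam (K.a (dd A' I c)) = θ (dd A' I c) := by
  letI : Module Tᵐᵒᵖ M := Module.compHom _ ((RingHom.id T).fromOpposite mul_comm)
  haveI : IsCentralScalar T M := ⟨fun _ _ => rfl⟩
  let inlT : T →ₐ[A] TrivSqZeroExt T M := TrivSqZeroExt.inlAlgHom A T M
  let θB : PQ C A' I →ₗ[A] TrivSqZeroExt T M :=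
    ((TrivSqZeroExt.inrHom T M).restrictScalars A).comp θ
  let N : Ideal (TrivSqZeroExt T M) :=
    (I.map (algebraMap A T)).comap (TrivSqZeroExt.fstHom A T M).toRingHom
  have hN : N ^ 2 = ⊥ := ker_fst_sq (by rw [← Ideal.map_pow, hI, Ideal.map_bot]) (map_smul_eq_zero hM)
  have hIN : I.map (algebraMap A (TrivSqZeroExt T M)) ≤ N := fun b hb =>
    hom_mem_map (TrivSqZeroExt.fstHom A T M) hb
  have hθs : ∀ (s : A') p, θB (s • p) = inlT (g s) * θB p := fun s p => by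
    show inr (θ (s • p)) = inl (g s) * inr (θ p)
    rw [hθ, TrivSqZeroExt.inl_mul_inr]
  have hθN : ∀ p, θB p ∈ N := fun p => (I.map (algebraMap A T)).zero_mem
  obtain ⟨x, hx⟩ := exists_ofTheta I (inlT.comp g) θB hθs
    (fun p p' => TrivSqZeroExt.inr_mul_inr _ _ _)
  intro c
  have hc := K.key _ N hN hIN (inlT.comp φ) θB
    (fun s p => by rw [hθs, AlgHom.comp_apply, h₂]) hθN (inlT.comp g)
    (fun s => by rw [AlgHom.comp_apply, AlgHom.comp_apply, h₁]) x x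
    (fun c => by rw [hx, AlgHom.comp_apply, AlgHom.comp_apply, h₂])
    ⟨fun c => by rw [hx, add_sub_cancel_left]; exact hθN _, rfl⟩ c
  have hsnd : ∀ m, (LinearMap.mul' A (TrivSqZeroExt T M)
      (TensorProduct.map (inlT.comp g).toLinearMap θB m)).snd = lam m := by
    intro m
    induction m using TensorProduct.induction_on with
    | zero => rw [map_zero, map_zero, map_zero]; rfl
    | add x y hx hy => rw [map_add, map_add, TrivSqZeroExt.snd_add, hx, hy, map_add]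
    | tmul s p =>
      rw [TensorProduct.map_tmul, LinearMap.mul'_apply, hlam]
      show (inl (g s) * inr (θ p) : TrivSqZeroExt T M).snd = _
      rw [TrivSqZeroExt.inl_mul_inr, TrivSqZeroExt.snd_inr]
  have := congrArg TrivSqZeroExt.snd hc
  rw [hx, TrivSqZeroExt.snd_add, TrivSqZeroExt.snd_add, hsnd] at this
  change (0 : M) + θ (dd A' I c) = 0 + _ at this
  rw [zero_add, zero_add] at this
  exact this.symm

theorem Coact.map_triple (K : Coact (C := C) (A' := A') I P) (hI : I ^ 2 = ⊥)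
    (z₀ : P.F (A ⧸ I)) (q : A ⧸ I →ₐ[A] A' ⧸ I.map (algebraMap A A'))
    (hu : P.map q z₀ = P.pt ((Ideal.Quotient.mkₐ A (I.map (algebraMap A A'))).comp
      (IsScalarTower.toAlgHom A C A')))
    {T M : Type u} [CommRing T] [Algebra A T] [AddCommGroup M] [Module A M] [Module T M]
    [IsScalarTower A T M] (hM : ∀ i ∈ I, ∀ m : M, i • m = 0)
    (φ₂₃ φ₁₃ φ₁₂ : A' ⊗[A] A' →ₐ[A] T)
    (h₃ : ∀ s, φ₁₃ ((1 : A') ⊗ₜ s) = φ₂₃ ((1 : A') ⊗ₜ s)) (h₁ : ∀ s, φ₁₂ (s ⊗ₜ 1) = φ₁₃ (s ⊗ₜ 1))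
    (h₂ : ∀ s, φ₁₂ ((1 : A') ⊗ₜ s) = φ₂₃ (s ⊗ₜ 1))
    (θ : PQ C A' I →ₗ[A] M) (hθ : ∀ (s : A') p, θ (s • p) = φ₂₃ ((1 : A') ⊗ₜ s) • θ p)
    (lam₂₃ lam₁₃ lamM : A' ⊗[A] PQ C A' I →ₗ[A] M) (lamT : A' ⊗[A] PQ C A' I →ₗ[A] T)
    (hl₂₃ : ∀ s p, lam₂₃ (s ⊗ₜ p) = φ₂₃ (s ⊗ₜ 1) • θ p)
    (hl₁₃ : ∀ s p, lam₁₃ (s ⊗ₜ p) = φ₁₃ (s ⊗ₜ 1) • θ p)
    (hlM : ∀ s p, lamM (s ⊗ₜ p) = φ₁₂ (s ⊗ₜ 1) • lam₂₃ (K.a p))
    (hlT : ∀ s p, lamT (s ⊗ₜ p) = φ₁₂ (s ⊗ₜ 1) * φ₂₃ (K.θv p)) :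
    ∀ c, φ₁₃ (K.θv (dd A' I c)) = φ₁₂ (K.θv (dd A' I c)) + lamT (K.a (dd A' I c)) ∧
      lam₁₃ (K.a (dd A' I c)) = lamM (K.a (dd A' I c)) := by
  letI : Module Tᵐᵒᵖ M := Module.compHom _ ((RingHom.id T).fromOpposite mul_comm)
  haveI : IsCentralScalar T M := ⟨fun _ _ => rfl⟩
  let inlT : T →ₐ[A] TrivSqZeroExt T M := TrivSqZeroExt.inlAlgHom A T M
  let inrM : M →ₗ[A] TrivSqZeroExt T M := (TrivSqZeroExt.inrHom T M).restrictScalars A
  let N : Ideal (TrivSqZeroExt T M) :=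
    (I.map (algebraMap A T)).comap (TrivSqZeroExt.fstHom A T M).toRingHom
  have hN : N ^ 2 = ⊥ := ker_fst_sq (by rw [← Ideal.map_pow, hI, Ideal.map_bot]) (map_smul_eq_zero hM)
  have hIN : I.map (algebraMap A (TrivSqZeroExt T M)) ≤ N := fun b hb =>
    hom_mem_map (TrivSqZeroExt.fstHom A T M) hb
  let iR : A' →ₐ[A] A' ⊗[A] A' := Algebra.TensorProduct.includeRight
  let iL : A' →ₐ[A] A' ⊗[A] A' := Algebra.TensorProduct.includeLeft
  let G₁ : A' →ₐ[A] TrivSqZeroExt T M := inlT.comp (φ₁₃.comp iL)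
  let G₂ : A' →ₐ[A] TrivSqZeroExt T M := inlT.comp (φ₂₃.comp iL)
  let G₃ : A' →ₐ[A] TrivSqZeroExt T M := inlT.comp (φ₂₃.comp iR)
  let θ₃ : PQ C A' I →ₗ[A] TrivSqZeroExt T M := inrM.comp θ
  have hθ₃s : ∀ (s : A') p, θ₃ (s • p) = inlT (φ₂₃ ((1 : A') ⊗ₜ s)) * θ₃ p := fun s p => by
    show inr (θ (s • p)) = inl _ * inr (θ p)
    rw [hθ, TrivSqZeroExt.inl_mul_inr]
  have hθ₃N : ∀ p, θ₃ p ∈ N := fun p => (I.map (algebraMap A T)).zero_mem
  obtain ⟨x₃, hx₃⟩ := exists_ofTheta I G₃ θ₃ hθ₃s (fun p p' => TrivSqZeroExt.inr_mul_inr _ _ _)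
  have hx₃N : ∀ c, x₃ c - G₃ (algebraMap C A' c) ∈ N := fun c => by
    rw [hx₃, add_sub_cancel_left]; exact hθ₃N _
  obtain ⟨y₂₃, hy₂₃⟩ := exists_isTrans I P z₀ q hu N hN hIN G₂ G₃ x₃ hx₃N
  obtain ⟨y₁₃, hy₁₃⟩ := exists_isTrans I P z₀ q hu N hN hIN G₁ G₃ x₃ hx₃N
  have e₂₃ := K.key _ N hN hIN (inlT.comp φ₂₃) θ₃ hθ₃s hθ₃N G₂ (fun s => rfl) x₃ y₂₃ hx₃ hy₂₃
  have e₁₃ := K.key _ N hN hIN (inlT.comp φ₁₃) θ₃
    (fun s p => by rw [hθ₃s, AlgHom.comp_apply, h₃]) hθ₃N G₁ (fun s => rfl) x₃ y₁₃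
    (fun c => by rw [hx₃, AlgHom.comp_apply inlT φ₁₃, h₃]; rfl) hy₁₃
  have hmul : ∀ (φ : A' ⊗[A] A' →ₐ[A] T) (l : A' ⊗[A] PQ C A' I →ₗ[A] M),
      (∀ s p, l (s ⊗ₜ p) = φ (s ⊗ₜ 1) • θ p) → ∀ m, LinearMap.mul' A (TrivSqZeroExt T M)
        (TensorProduct.map (inlT.comp (φ.comp iL)).toLinearMap θ₃ m) = inr (l m) := by
    intro φ l hl m
    induction m using TensorProduct.induction_on with
    | zero => rw [map_zero, map_zero, map_zero, TrivSqZeroExt.inr_zero]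
    | add x y hx hy => rw [map_add, map_add, hx, hy, map_add, TrivSqZeroExt.inr_add]
    | tmul s p =>
      rw [TensorProduct.map_tmul, LinearMap.mul'_apply, hl]
      show inl (φ (s ⊗ₜ 1)) * inr (θ p) = _
      rw [TrivSqZeroExt.inl_mul_inr]
  let θ₁₂ : PQ C A' I →ₗ[A] TrivSqZeroExt T M :=
    inlT.toLinearMap.comp (φ₂₃.toLinearMap.comp K.θv) + inrM.comp (lam₂₃.comp (K.a.restrictScalars A))
  have hθ₁₂ : ∀ p, θ₁₂ p = inl (φ₂₃ (K.θv p)) + inr (lam₂₃ (K.a p)) := fun p => rfl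
  have hθ₁₂N : ∀ p, θ₁₂ p ∈ N := fun p => by
    show (θ₁₂ p).fst ∈ I.map (algebraMap A T)
    rw [hθ₁₂, TrivSqZeroExt.fst_add, TrivSqZeroExt.fst_inl, TrivSqZeroExt.fst_inr, add_zero]
    exact hom_mem_map φ₂₃ (K.θv_mem p)
  have hl₂₃s : ∀ (s : A') m, lam₂₃ (s • m) = φ₂₃ (s ⊗ₜ 1) • lam₂₃ m := by
    intro s m
    induction m using TensorProduct.induction_on with
    | zero => rw [smul_zero, map_zero, smul_zero]
    | add x y hx hy => rw [smul_add, map_add, map_add, hx, hy, smul_add]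
    | tmul r p =>
      rw [TensorProduct.smul_tmul', hl₂₃, hl₂₃, smul_smul, ← map_mul, Algebra.TensorProduct.tmul_mul_tmul,
        smul_eq_mul, mul_one]
  have e₁₂ := K.key _ N hN hIN (inlT.comp φ₁₂) θ₁₂
    (fun s p => by
      rw [hθ₁₂, hθ₁₂, K.θv_smul, map_smul, map_mul, hl₂₃s, AlgHom.comp_apply, h₂]
      show _ = inl (φ₂₃ (s ⊗ₜ 1)) * _
      rw [mul_add, ← TrivSqZeroExt.inl_mul, TrivSqZeroExt.inl_mul_inr])
    hθ₁₂N G₁ (fun s => by show inlT (φ₁₃ (s ⊗ₜ 1)) = inlT (φ₁₂ (s ⊗ₜ 1)); rw [h₁]) y₂₃ y₁₃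
    (fun c => by
      rw [e₂₃, hmul φ₂₃ lam₂₃ hl₂₃, hθ₁₂, AlgHom.comp_apply, AlgHom.comp_apply, K.v_eq, h₂, map_add, map_add,
        add_assoc]
      rfl)
    ⟨hy₁₃.1, hy₁₃.2.trans hy₂₃.2.symm⟩
  have hmul₁₂ : ∀ m, LinearMap.mul' A (TrivSqZeroExt T M) (TensorProduct.map G₁.toLinearMap θ₁₂ m) =
      inl (lamT m) + inr (lamM m) := by
    intro m
    induction m using TensorProduct.induction_on with
    | zero => simp only [map_zero, TrivSqZeroExt.inl_zero, TrivSqZeroExt.inr_zero, add_zero]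
    | add x y hx hy =>
      rw [map_add, map_add, hx, hy, map_add, map_add, TrivSqZeroExt.inl_add, TrivSqZeroExt.inr_add]
      abel
    | tmul s p =>
      rw [TensorProduct.map_tmul, LinearMap.mul'_apply, hlT, hlM, hθ₁₂, h₁]
      show inl (φ₁₃ (s ⊗ₜ 1)) * _ = _
      rw [mul_add, ← TrivSqZeroExt.inl_mul, TrivSqZeroExt.inl_mul_inr]
  intro c
  have h := e₁₂ c
  rw [e₁₃ c, hmul φ₁₃ lam₁₃ hl₁₃, hmul₁₂] at h
  have hf := congrArg TrivSqZeroExt.fst h
  have hs := congrArg TrivSqZeroExt.snd h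
  change φ₁₃ (K.v c) + 0 = φ₁₂ (K.v c) + (lamT (K.a (dd A' I c)) + 0) at hf
  change 0 + lam₁₃ (K.a (dd A' I c)) = 0 + (0 + lamM (K.a (dd A' I c))) at hs
  rw [add_zero, add_zero, K.v_eq, map_add, map_add, h₁, add_assoc] at hf
  rw [zero_add, zero_add, zero_add] at hs
  exact ⟨add_left_cancel hf, hs⟩

end Groth.Agent.TorsorLift
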