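import Groth.Agent.TorsorLift.Coact

/-!
The gluing of local lifts.
-/

set_option autoImplicit false
set_option maxHeartbeats 1000000

universe u v

open TensorProduct

namespace Groth.Agent.TorsorLift

variable {A C A' : Type u} [CommRing A] [CommRing C] [CommRing A'] [Algebra A C] [Algebra A A']
  [Algebra C A'] [IsScalarTower A C A'] (I : Ideal A) (P : Pts.{u, v} A C)

/-- Lifts along a square-zero thickening exist if they exist on a faithfully flat cover. -/
theorem exists_lift (hI : I ^ 2 = ⊥) [Algebra.FormallySmooth A C] [Module.FaithfullyFlat A A']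
    (z₀ : P.F (A ⧸ I)) (q : A ⧸ I →ₐ[A] A' ⧸ I.map (algebraMap A A'))
    (hu : P.map q z₀ = P.pt ((Ideal.Quotient.mkₐ A (I.map (algebraMap A A'))).comp
      (IsScalarTower.toAlgHom A C A')))
    (hdesc : ∀ z : P.F A', P.map (Algebra.TensorProduct.includeLeft : A' →ₐ[A] A' ⊗[A] A') z =
      P.map (Algebra.TensorProduct.includeRight : A' →ₐ[A] A' ⊗[A] A') z →
        ∃ l : P.F A, P.map (Algebra.ofId A A') l = z)
    (hsep : Function.Injective (P.map q)) :
    ∃ l : P.F A, P.map (Ideal.Quotient.mkₐ A I) l = z₀ := by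
  have hJsq : ∀ (B : Type u) [CommRing B] [Algebra A B], (I.map (algebraMap A B)) ^ 2 = ⊥ := fun B _ _ => by
    rw [← Ideal.map_pow, hI, Ideal.map_bot]
  have hIP' : ∀ j ∈ I.map (algebraMap A A'), ∀ p : PQ C A' I, j • p = 0 := fun j hj p => by
    obtain ⟨w, rfl⟩ := Submodule.Quotient.mk_surjective _ p
    rw [← Submodule.Quotient.mk_smul, Submodule.Quotient.mk_eq_zero]
    exact Submodule.smul_mem_smul hj Submodule.mem_top
  have hIP : ∀ i ∈ I, ∀ p : PQ C A' I, i • p = 0 := fun i hi p => by
    rw [← algebraMap_smul A' i p]; exact hIP' _ (Ideal.mem_map_of_mem _ hi) p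
  obtain ⟨K⟩ := exists_coact (C := C) (A' := A') I P hI z₀ q hu
  -- counit
  have hμ : ∀ p, LinearMap.liftBaseChange A' (LinearMap.id : PQ C A' I →ₗ[A] PQ C A' I) (K.a p) = p := by
    intro p
    refine ext_dd I (fun s m => s • m)
      ((LinearMap.liftBaseChange A' (LinearMap.id : PQ C A' I →ₗ[A] PQ C A' I)).toAddMonoidHom.comp K.a.toAddMonoidHom)
      (AddMonoidHom.id _) (fun s p => by simp) (fun s p => rfl) (fun c => ?_) p
    exact K.map_self hI hIP (Algebra.TensorProduct.lmul' A) (AlgHom.id A A') (fun s => by simp)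
      (fun s => by simp) LinearMap.id (fun s p => rfl)
      ((LinearMap.liftBaseChange A' (LinearMap.id : PQ C A' I →ₗ[A] PQ C A' I)).restrictScalars A)
      (fun s p => rfl) c
  -- coassociativity and cocycle
  obtain ⟨hcoc, hcyc⟩ : (∀ p, LinearMap.lTensor A' (K.a.restrictScalars A) (K.a p) =
        LinearMap.lTensor A' (TensorProduct.mk A A' (PQ C A' I) 1) (K.a p)) ∧
      ∀ p, Algebra.TensorProduct.map (AlgHom.id A A')
          (Algebra.TensorProduct.includeRight : A' →ₐ[A] A' ⊗[A] A') (K.θv p) =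
        Algebra.TensorProduct.map (AlgHom.id A A')
          (Algebra.TensorProduct.includeLeft : A' →ₐ[A] A' ⊗[A] A') (K.θv p) +
          LinearMap.lTensor A' K.θv (K.a p) := by
    letI : Module (A' ⊗[A] A') (A' ⊗[A] PQ C A' I) := actModule A A' A' (PQ C A' I)
    haveI : IsScalarTower A (A' ⊗[A] A') (A' ⊗[A] PQ C A' I) := actModule_tower A A' A' (PQ C A' I)
    letI : Module (A' ⊗[A] (A' ⊗[A] A')) (A' ⊗[A] (A' ⊗[A] PQ C A' I)) :=
      actModule A A' (A' ⊗[A] A') (A' ⊗[A] PQ C A' I)
    haveI : IsScalarTower A (A' ⊗[A] (A' ⊗[A] A')) (A' ⊗[A] (A' ⊗[A] PQ C A' I)) :=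
      actModule_tower A A' (A' ⊗[A] A') (A' ⊗[A] PQ C A' I)
    let i23 : A' ⊗[A] A' →ₐ[A] A' ⊗[A] (A' ⊗[A] A') := Algebra.TensorProduct.includeRight
    let p12 : A' ⊗[A] A' →ₐ[A] A' ⊗[A] (A' ⊗[A] A') := Algebra.TensorProduct.map (AlgHom.id A A')
      (Algebra.TensorProduct.includeLeft : A' →ₐ[A] A' ⊗[A] A')
    let p13 : A' ⊗[A] A' →ₐ[A] A' ⊗[A] (A' ⊗[A] A') := Algebra.TensorProduct.map (AlgHom.id A A')
      (Algebra.TensorProduct.includeRight : A' →ₐ[A] A' ⊗[A] A')
    let θ : PQ C A' I →ₗ[A] A' ⊗[A] (A' ⊗[A] PQ C A' I) :=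
      (TensorProduct.mk A A' (A' ⊗[A] PQ C A' I) 1).comp (TensorProduct.mk A A' (PQ C A' I) 1)
    have hact : ∀ (s : A') (w : A' ⊗[A] A') (r : A') (m : A' ⊗[A] PQ C A' I),
        (s ⊗ₜ[A] w) • (r ⊗ₜ[A] m) = (s * r) ⊗ₜ[A] (w • m) := fun s w r m => rfl
    have hact' : ∀ (s t r : A') (x : PQ C A' I),
        (s ⊗ₜ[A] t) • (r ⊗ₜ[A] x) = (s * r) ⊗ₜ[A] (t • x) := fun s t r x => rfl
    have h := K.map_triple hI z₀ q hu (tensor_smul_eq_zero (tensor_smul_eq_zero hIP)) i23 p13 p12
      (fun s => rfl) (fun s => rfl) (fun s => rfl) θ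
      (fun s p => by
        show (1 : A') ⊗ₜ[A] ((1 : A') ⊗ₜ[A] (s • p)) =
          ((1 : A') ⊗ₜ[A] ((1 : A') ⊗ₜ[A] s)) • ((1 : A') ⊗ₜ[A] ((1 : A') ⊗ₜ[A] p))
        rw [hact, hact', one_mul])
      (TensorProduct.mk A A' (A' ⊗[A] PQ C A' I) 1)
      (LinearMap.lTensor A' (TensorProduct.mk A A' (PQ C A' I) 1))
      (LinearMap.lTensor A' (K.a.restrictScalars A)) (LinearMap.lTensor A' K.θv)
      (fun s p => by
        show (1 : A') ⊗ₜ[A] (s ⊗ₜ[A] p) =
          ((1 : A') ⊗ₜ[A] (s ⊗ₜ[A] (1 : A'))) • ((1 : A') ⊗ₜ[A] ((1 : A') ⊗ₜ[A] p))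
        rw [hact, hact', one_mul, mul_one, one_smul])
      (fun s p => by
        show s ⊗ₜ[A] ((1 : A') ⊗ₜ[A] p) =
          (s ⊗ₜ[A] (1 : A' ⊗[A] A')) • ((1 : A') ⊗ₜ[A] ((1 : A') ⊗ₜ[A] p))
        rw [hact, mul_one, one_smul])
      (fun s p => by
        show s ⊗ₜ[A] K.a p = (s ⊗ₜ[A] (1 : A' ⊗[A] A')) • ((1 : A') ⊗ₜ[A] K.a p)
        rw [hact, mul_one, one_smul])
      (fun s p => by
        show s ⊗ₜ[A] K.θv p = (s ⊗ₜ[A] (1 : A' ⊗[A] A')) * ((1 : A') ⊗ₜ[A] K.θv p)
        rw [Algebra.TensorProduct.tmul_mul_tmul, mul_one, one_mul])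
    refine ⟨fun p => ?_, fun p => ?_⟩
    · refine ext_dd I (fun s m => s • m)
        ((LinearMap.lTensor A' (K.a.restrictScalars A)).toAddMonoidHom.comp K.a.toAddMonoidHom)
        ((LinearMap.lTensor A' (TensorProduct.mk A A' (PQ C A' I) 1)).toAddMonoidHom.comp K.a.toAddMonoidHom)
        (fun s p => ?_) (fun s p => ?_) (fun c => (h c).2.symm) p
      · show LinearMap.lTensor A' _ (K.a (s • p)) = s • LinearMap.lTensor A' _ (K.a p)
        rw [map_smul]
        exact (AlgebraTensorModule.lTensor A' A' (K.a.restrictScalars A)).map_smul s (K.a p)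
      · show LinearMap.lTensor A' _ (K.a (s • p)) = s • LinearMap.lTensor A' _ (K.a p)
        rw [map_smul]
        exact (AlgebraTensorModule.lTensor A' A' (TensorProduct.mk A A' (PQ C A' I) 1)).map_smul s (K.a p)
    · refine ext_dd I (fun s m => (s ⊗ₜ[A] (1 : A' ⊗[A] A')) * m)
        (p13.toLinearMap.comp K.θv).toAddMonoidHom
        ((p12.toLinearMap.comp K.θv) + (LinearMap.lTensor A' K.θv).comp (K.a.restrictScalars A)).toAddMonoidHom
        (fun s p => ?_) (fun s p => ?_) (fun c => (h c).1) p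
      · show p13 (K.θv (s • p)) = _ * p13 (K.θv p)
        rw [K.θv_smul, map_mul]
        rfl
      · show p12 (K.θv (s • p)) + LinearMap.lTensor A' K.θv (K.a (s • p)) =
          _ * (p12 (K.θv p) + LinearMap.lTensor A' K.θv (K.a p))
        rw [K.θv_smul, map_mul, map_smul, mul_add]
        congr 1
        generalize K.a p = m
        induction m using TensorProduct.induction_on with
        | zero => rw [smul_zero, map_zero, mul_zero]
        | add x y hx hy => rw [smul_add, map_add, map_add, hx, hy, mul_add]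
        | tmul r x =>
          rw [TensorProduct.smul_tmul', LinearMap.lTensor_tmul, LinearMap.lTensor_tmul,
            Algebra.TensorProduct.tmul_mul_tmul, one_mul, smul_eq_mul]
  -- descend the module of differentials
  have hbij := bijective_of_coaction K.a hμ hcoc
  let E := LinearMap.ker (K.a.restrictScalars A - TensorProduct.mk A A' (PQ C A' I) 1)
  have hE : ∀ e : E, K.a e.1 = (1 : A') ⊗ₜ e.1 := fun e => sub_eq_zero.1 e.2
  obtain ⟨η, hηJ, hη⟩ : ∃ η : E →ₗ[A] A', (∀ e, η e ∈ I.map (algebraMap A A')) ∧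
      ∀ e : E, d1 A A' (η e) = K.θv e.1 := by
    let R := A ⧸ I
    let R' := A' ⧸ I.map (algebraMap A A')
    letI : Algebra R R' :=
      (Ideal.quotientMap (I.map (algebraMap A A')) (algebraMap A A') Ideal.le_comap_map).toAlgebra
    haveI : IsScalarTower A R R' := IsScalarTower.of_algebraMap_eq fun _ => rfl
    have hEI : Module.IsTorsionBySet A E (I : Set A) := fun e i => Subtype.ext (hIP i.1 i.2 e.1)
    letI : Module R E := hEI.module
    haveI : IsScalarTower A R E := hEI.isScalarTower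
    haveI : Module.FaithfullyFlat R R' := by
      haveI : Algebra.IsPushout A A' R R' := by
        letI : Algebra R (TensorProduct A A' R) := Algebra.TensorProduct.rightAlgebra
        exact Algebra.IsPushout.of_equiv (h := TensorProduct.isPushout)
          (Algebra.TensorProduct.quotIdealMapEquivTensorQuot A' I).symm
          (Ideal.Quotient.ringHom_ext (RingHom.ext fun a => by
            simp [RingHom.algebraMap_toAlgebra]
            erw [Algebra.TensorProduct.quotIdealMapEquivTensorQuot_symm_tmul]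
            rw [Algebra.smul_def, mul_one]; rfl))
      haveI : Algebra.IsPushout A R A' R' := Algebra.IsPushout.symm ‹_›
      exact Module.FaithfullyFlat.of_linearEquiv _ _
        (Algebra.IsPushout.out (R := A) (S := R) (R' := A') (S' := R')).equiv.symm
    let Q := A' ⊗[C] KaehlerDifferential A C
    haveI : Module.Projective R' (PQ C A' I) :=
      Module.Projective.of_equiv
        ((TensorProduct.quotTensorEquivQuotSMul Q (I.map (algebraMap A A'))).extendScalarsOfSurjective
          Ideal.Quotient.mk_surjective)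
    letI : Module R (PQ C A' I) := Module.compHom _ (algebraMap R R')
    haveI : IsScalarTower R R' (PQ C A' I) := IsScalarTower.of_algebraMap_smul fun _ _ => rfl
    let ψ : E →ₗ[R] PQ C A' I :=
      { toFun := fun e => e.1
        map_add' := fun _ _ => rfl
        map_smul' := fun r e => by
          obtain ⟨r, rfl⟩ := Ideal.Quotient.mk_surjective r
          exact (algebraMap_smul A' r e.1).symm }
    let Φ : R' ⊗[R] E →ₗ[R'] PQ C A' I := LinearMap.liftBaseChange R' ψ
    let π : A' ⊗[A] E →ₗ[A] R' ⊗[R] E := TensorProduct.lift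
      (LinearMap.mk₂ A (fun s e => (Ideal.Quotient.mk _ s : R') ⊗ₜ[R] e)
        (fun s s' e => by rw [map_add, TensorProduct.add_tmul])
        (fun c s e => rfl)
        (fun s e e' => TensorProduct.tmul_add _ _ _)
        (fun c s e => TensorProduct.tmul_smul _ _ _))
    have hπ : Function.Surjective π := fun w => by
      induction w using TensorProduct.induction_on with
      | zero => exact ⟨0, map_zero _⟩
      | add x y hx hy =>
        obtain ⟨x, rfl⟩ := hx
        obtain ⟨y, rfl⟩ := hy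
        exact ⟨x + y, map_add _ _ _⟩
      | tmul s e =>
        obtain ⟨s, rfl⟩ := Ideal.Quotient.mk_surjective s
        exact ⟨s ⊗ₜ e, rfl⟩
    have hΦπ : ∀ w, Φ (π w) = LinearMap.liftBaseChange A' E.subtype w := fun w => by
      induction w using TensorProduct.induction_on with
      | zero => simp only [map_zero]
      | add x y hx hy => simp only [map_add, hx, hy]
      | tmul s e => rfl
    have hΦ : Function.Bijective Φ := by
      refine ⟨fun x y h => ?_, fun p => ?_⟩
      · obtain ⟨x, rfl⟩ := hπ x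
        obtain ⟨y, rfl⟩ := hπ y
        rw [hΦπ, hΦπ] at h
        rw [hbij.1 h]
      · obtain ⟨w, rfl⟩ := hbij.2 p
        exact ⟨π w, hΦπ w⟩
    haveI : Module.Projective R' (R' ⊗[R] E) :=
      Module.Projective.of_equiv (LinearEquiv.ofBijective Φ hΦ).symm
    haveI : Module.Projective R E := MLProjLib.projective_of_baseChange (S := R')
    let J1 : Submodule A A' := (I.map (algebraMap A A')).restrictScalars A
    let KK : Submodule A (A' ⊗[A] A') := J1.map (d1 A A')
    have hθE : ∀ e : E, K.θv e.1 ∈ KK := fun e => by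
      obtain ⟨y, hy, hyx⟩ := exists_mem_map_d1_eq I (K.θv e.1) (K.θv_mem _) (by
        rw [hcyc, hE e, LinearMap.lTensor_tmul])
      exact ⟨y, hy, hyx⟩
    have hII : ∀ i ∈ I, ∀ y ∈ J1, i • y = 0 := fun i hi y hy => by
      have : algebraMap A A' i * y ∈ (I.map (algebraMap A A')) ^ 2 := by
        rw [pow_two]; exact Ideal.mul_mem_mul (Ideal.mem_map_of_mem _ hi) hy
      rw [hJsq, Ideal.mem_bot] at this
      rw [Algebra.smul_def]; exact this
    have hJI : Module.IsTorsionBySet A J1 (I : Set A) := fun y i => Subtype.ext (hII i.1 i.2 y.1 y.2)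
    have hKI : Module.IsTorsionBySet A KK (I : Set A) := fun y i => by
      obtain ⟨z, hz, hzy⟩ := y.2
      refine Subtype.ext ?_
      show i.1 • y.1 = 0
      rw [← hzy, ← map_smul, hII i.1 i.2 z hz, map_zero]
    letI : Module R J1 := hJI.module
    haveI : IsScalarTower A R J1 := hJI.isScalarTower
    letI : Module R KK := hKI.module
    haveI : IsScalarTower A R KK := hKI.isScalarTower
    let d : J1 →ₗ[R] KK := LinearMap.extendScalarsOfSurjective Ideal.Quotient.mk_surjective
      (((d1 A A').comp J1.subtype).codRestrict KK fun y => ⟨y.1, y.2, rfl⟩)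
    have hd : Function.Surjective d := by
      rintro ⟨_, z, hz, rfl⟩
      exact ⟨⟨z, hz⟩, rfl⟩
    let δ : E →ₗ[R] KK := LinearMap.extendScalarsOfSurjective Ideal.Quotient.mk_surjective
      ((K.θv.comp E.subtype).codRestrict KK hθE)
    obtain ⟨η, hη⟩ := Module.projective_lifting_property d δ hd
    refine ⟨J1.subtype.comp (η.restrictScalars A), fun e => (η e).2, fun e => ?_⟩
    exact congrArg Subtype.val (LinearMap.congr_fun hη e)
  let e := LinearEquiv.ofBijective _ hbij
  let H : PQ C A' I →ₗ[A'] A' := (LinearMap.liftBaseChange A' (-η)).comp e.symm.toLinearMap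
  have hHE : ∀ x : E, H x.1 = -η x := fun x => by
    show LinearMap.liftBaseChange A' (-η) (e.symm x.1) = _
    have h1 : x.1 = e ((1 : A') ⊗ₜ x) := by
      show _ = LinearMap.liftBaseChange A' E.subtype ((1 : A') ⊗ₜ x)
      rw [LinearMap.liftBaseChange_tmul, one_smul]
      rfl
    conv_lhs => rw [h1, LinearEquiv.symm_apply_apply]
    rw [LinearMap.liftBaseChange_tmul, one_smul]
    rfl
  have hHJ : ∀ p, H p ∈ I.map (algebraMap A A') := fun p => by
    show LinearMap.liftBaseChange A' (-η) (e.symm p) ∈ _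
    induction e.symm p using TensorProduct.induction_on with
    | zero => rw [map_zero]; exact Ideal.zero_mem _
    | add x y hx hy => rw [map_add]; exact Ideal.add_mem _ hx hy
    | tmul s x =>
      rw [LinearMap.liftBaseChange_tmul, LinearMap.neg_apply, smul_eq_mul]
      exact Ideal.mul_mem_left _ _ (neg_mem (hηJ x))
  have hHH : ∀ p p', H p * H p' = 0 := fun p p' => by
    have : H p * H p' ∈ (I.map (algebraMap A A')) ^ 2 := by
      rw [pow_two]; exact Ideal.mul_mem_mul (hHJ p) (hHJ p')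
    rwa [hJsq] at this
  obtain ⟨c', hc'⟩ := exists_ofTheta I (AlgHom.id A A') (H.restrictScalars A)
    (fun s p => H.map_smul s p) hHH
  let iL : A' →ₐ[A] A' ⊗[A] A' := Algebra.TensorProduct.includeLeft
  let iR : A' →ₐ[A] A' ⊗[A] A' := Algebra.TensorProduct.includeRight
  have hJmap : ∀ g : A' →ₐ[A] A' ⊗[A] A', ∀ p, g (H p) ∈ (I.map (algebraMap A (A' ⊗[A] A'))) := fun g p => hom_mem_map g (hHJ p)
  obtain ⟨y, hy⟩ := exists_isTrans I P z₀ q hu (I.map (algebraMap A (A' ⊗[A] A'))) (hJsq _) le_rfl iL iR (iR.comp c') (fun c => by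
    rw [AlgHom.comp_apply, hc', map_add]
    show iR (algebraMap C A' c) + iR (H _) - iR (algebraMap C A' c) ∈ (I.map (algebraMap A (A' ⊗[A] A')))
    rw [add_sub_cancel_left]; exact hJmap _ _)
  have hyd := K.key (A' ⊗[A] A') (I.map (algebraMap A (A' ⊗[A] A'))) (hJsq _) le_rfl (AlgHom.id A _) (iR.toLinearMap.comp (H.restrictScalars A))
    (fun s p => by
      show iR (H (s • p)) = iR s * iR (H p)
      rw [map_smul, smul_eq_mul, map_mul]) (hJmap iR) iL (fun s => rfl) (iR.comp c') y
    (fun c => by rw [AlgHom.comp_apply, hc', map_add]; rfl) hy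
  have hlr : ∀ p, K.θv p + LinearMap.mul' A (A' ⊗[A] A')
      (TensorProduct.map iL.toLinearMap (iR.toLinearMap.comp (H.restrictScalars A)) (K.a p)) = iL (H p) := by
    intro p
    obtain ⟨w, rfl⟩ := hbij.2 p
    induction w using TensorProduct.induction_on with
    | zero => simp only [map_zero, add_zero]
    | add x y hx hy => simp only [map_add, ← hx, ← hy]; abel
    | tmul s x =>
      rw [LinearMap.liftBaseChange_tmul, Submodule.subtype_apply, K.θv_smul, map_smul K.a, hE,
        TensorProduct.smul_tmul', smul_eq_mul, mul_one, TensorProduct.map_tmul, LinearMap.mul'_apply,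
        map_smul H, ← hη x, d1_apply]
      show iL s * (iR (η x) - iL (η x)) + iL s * iR (H x.1) = iL (s * H x.1)
      rw [hHE, map_mul iL, map_neg, map_neg]
      ring
  have hyc : y = iL.comp c' := AlgHom.ext fun c => by
    rw [hyd c, AlgHom.comp_apply, hc', map_add]
    show K.v c + _ = iL (algebraMap C A' c) + iL (H (dd A' I c))
    rw [K.v_eq, add_assoc, hlr]
    rfl
  have hpt : P.map iL (P.pt c') = P.map iR (P.pt c') := by
    rw [P.map_pt, P.map_pt, ← hyc]
    exact hy.2
  obtain ⟨l, hl⟩ := hdesc _ hpt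
  refine ⟨l, hsep ?_⟩
  rw [← P.map_comp, hu]
  have e1 : q.comp (Ideal.Quotient.mkₐ A I) =
      (Ideal.Quotient.mkₐ A (I.map (algebraMap A A'))).comp (Algebra.ofId A A') := Subsingleton.elim _ _
  rw [e1, P.map_comp, hl, P.map_pt]
  congr 1
  refine AlgHom.ext fun c => (Ideal.Quotient.mk_eq_mk_iff_sub_mem _ _).2 ?_
  show c' c - algebraMap C A' c ∈ _
  rw [hc']
  show algebraMap C A' c + H _ - algebraMap C A' c ∈ _
  rw [add_sub_cancel_left]
  exact hHJ _

end Groth.Agent.TorsorLift
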