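import Groth.Agent.TorsorLift.Descent
import Groth.Agent.MLProjLib.Descent

/-!
Lifting along a square-zero thickening is flat local for formally smooth morphisms.
-/

set_option autoImplicit false

universe u v

open TensorProduct

namespace Groth.Agent.TorsorLift

/-- A functor of points with a chart which lifts uniquely along square-zero thickenings. -/
structure Pts (A : Type u) [CommRing A] (C : Type u) [CommRing C] [Algebra A C] where
  /-- points -/
  F : ∀ (B : Type u) [CommRing B] [Algebra A B], Type v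
  /-- functoriality -/
  map : ∀ {B B' : Type u} [CommRing B] [CommRing B'] [Algebra A B] [Algebra A B'],
    (B →ₐ[A] B') → F B → F B'
  map_comp : ∀ {B B' B'' : Type u} [CommRing B] [CommRing B'] [CommRing B''] [Algebra A B]
    [Algebra A B'] [Algebra A B''] (g : B →ₐ[A] B') (h : B' →ₐ[A] B'') (z : F B),
    map (h.comp g) z = map h (map g z)
  /-- the chart -/
  pt : ∀ {B : Type u} [CommRing B] [Algebra A B], (C →ₐ[A] B) → F B
  map_pt : ∀ {B B' : Type u} [CommRing B] [CommRing B'] [Algebra A B] [Algebra A B']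
    (h : B →ₐ[A] B') (c : C →ₐ[A] B), map h (pt c) = pt (h.comp c)
  exists_lift : ∀ {B : Type u} [CommRing B] [Algebra A B] (N : Ideal B), N ^ 2 = ⊥ →
    ∀ (c₀ : C →ₐ[A] B ⧸ N) (z : F B), map (Ideal.Quotient.mkₐ A N) z = pt c₀ →
      ∃ c : C →ₐ[A] B, (Ideal.Quotient.mkₐ A N).comp c = c₀ ∧ pt c = z
  lift_unique : ∀ {B : Type u} [CommRing B] [Algebra A B] (N : Ideal B), N ^ 2 = ⊥ →
    ∀ c c' : C →ₐ[A] B, (Ideal.Quotient.mkₐ A N).comp c = (Ideal.Quotient.mkₐ A N).comp c' →
      pt c = pt c' → c = c'

variable {A C A' : Type u} [CommRing A] [CommRing C] [CommRing A'] [Algebra A C] [Algebra A A']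
  [Algebra C A'] [IsScalarTower A C A'] (I : Ideal A)

variable (C A') in
/-- Differentials pulled back to the reduction of the cover. -/
abbrev PQ : Type u :=
  (A' ⊗[C] KaehlerDifferential A C) ⧸
    (I.map (algebraMap A A') • (⊤ : Submodule A' (A' ⊗[C] KaehlerDifferential A C)))

variable (A') in
/-- The universal derivation. -/
noncomputable def dd (c : C) : PQ C A' I :=
  Submodule.Quotient.mk ((1 : A') ⊗ₜ[C] KaehlerDifferential.D A C c)

theorem dd_mul (a b : C) :
    dd A' I (a * b) = algebraMap C A' a • dd A' I b + algebraMap C A' b • dd A' I a := by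
  simp only [dd, ← Submodule.Quotient.mk_smul, ← Submodule.Quotient.mk_add]
  congr 1
  rw [Derivation.leibniz, TensorProduct.tmul_add, TensorProduct.tmul_smul, TensorProduct.tmul_smul,
    TensorProduct.smul_tmul', TensorProduct.smul_tmul', TensorProduct.smul_tmul', TensorProduct.smul_tmul']
  simp only [Algebra.smul_def, mul_one, Algebra.algebraMap_self, RingHom.id_apply]

theorem dd_add (a b : C) : dd A' I (a + b) = dd A' I a + dd A' I b := by
  simp only [dd, map_add, TensorProduct.tmul_add, Submodule.Quotient.mk_add]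

theorem dd_algebraMap (a : A) : dd A' I (algebraMap A C a) = 0 := by
  simp [dd]

/-- Semilinear maps out of the differentials are determined on exact differentials. -/
theorem ext_dd {N : Type u} [AddCommGroup N] (σ : A' → N → N) (θ θ' : PQ C A' I →+ N)
    (hθ : ∀ s p, θ (s • p) = σ s (θ p)) (hθ' : ∀ s p, θ' (s • p) = σ s (θ' p))
    (h : ∀ c, θ (dd A' I c) = θ' (dd A' I c)) (p : PQ C A' I) : θ p = θ' p := by
  obtain ⟨w, rfl⟩ := Submodule.Quotient.mk_surjective _ p
  induction w using TensorProduct.induction_on with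
  | zero => rw [Submodule.Quotient.mk_zero, map_zero, map_zero]
  | add x y hx hy => rw [Submodule.Quotient.mk_add, map_add, map_add, hx, hy]
  | tmul s ω =>
    have hω : ω ∈ Submodule.span C (Set.range (KaehlerDifferential.D A C)) := by
      rw [KaehlerDifferential.span_range_derivation]; exact Submodule.mem_top
    induction hω using Submodule.span_induction generalizing s with
    | mem x hx =>
      obtain ⟨c, rfl⟩ := hx
      have e : (Submodule.Quotient.mk (s ⊗ₜ[C] KaehlerDifferential.D A C c) : PQ C A' I) = s • dd A' I c := by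
        rw [dd, ← Submodule.Quotient.mk_smul, TensorProduct.smul_tmul', smul_eq_mul, mul_one]
      rw [e, hθ, hθ', h]
    | zero => rw [TensorProduct.tmul_zero, Submodule.Quotient.mk_zero, map_zero, map_zero]
    | add x y _ _ hx hy => rw [TensorProduct.tmul_add, Submodule.Quotient.mk_add, map_add, map_add, hx, hy]
    | smul c x _ hx => rw [← TensorProduct.smul_tmul, hx]

/-- A lift near `g ∘ u` differs from it by a semilinear map on differentials. -/
theorem exists_theta {B : Type u} [CommRing B] [Algebra A B] (g : A' →ₐ[A] B) (N : Ideal B)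
    (hN : N ^ 2 = ⊥) (hIN : I.map (algebraMap A B) ≤ N) (y : C →ₐ[A] B)
    (hy : ∀ c, y c - g (algebraMap C A' c) ∈ N) :
    ∃ θ : PQ C A' I →ₗ[A] B, (∀ s p, θ (s • p) = g s * θ p) ∧ (∀ p, θ p ∈ N) ∧
      ∀ c, θ (dd A' I c) = y c - g (algebraMap C A' c) := by
  letI : Algebra A' B := g.toRingHom.toAlgebra
  letI : Algebra C B := (g.toRingHom.comp (algebraMap C A')).toAlgebra
  haveI : IsScalarTower A A' B := IsScalarTower.of_algebraMap_eq fun a => (g.commutes a).symm
  haveI : IsScalarTower C A' B := IsScalarTower.of_algebraMap_eq fun _ => rfl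
  haveI : IsScalarTower A C B := IsScalarTower.of_algebraMap_eq fun a => by
    show _ = g (algebraMap C A' (algebraMap A C a))
    rw [← IsScalarTower.algebraMap_apply, g.commutes]
  have hNN : ∀ x z, x ∈ N → z ∈ N → x * z = 0 := fun x z hx hz => by
    have : x * z ∈ N ^ 2 := by rw [pow_two]; exact Ideal.mul_mem_mul hx hz
    rwa [hN] at this
  let L : C →ₗ[A] B := y.toLinearMap - (IsScalarTower.toAlgHom A C B).toLinearMap
  have hL : ∀ c, L c = y c - g (algebraMap C A' c) := fun c => rfl
  let D : Derivation A C B := Derivation.mk' L (fun a b => by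
    have := hNN _ _ (hy a) (hy b)
    simp only [hL, map_mul, Algebra.smul_def]
    show _ = g (algebraMap C A' a) * _ + g (algebraMap C A' b) * _
    linear_combination this)
  let Θ : A' ⊗[C] KaehlerDifferential A C →ₗ[A'] B :=
    LinearMap.liftBaseChange A' D.liftKaehlerDifferential
  have hΘD : ∀ s c, Θ (s ⊗ₜ KaehlerDifferential.D A C c) = g s * (y c - g (algebraMap C A' c)) := by
    intro s c
    show s • D.liftKaehlerDifferential (KaehlerDifferential.D A C c) = _
    rw [Derivation.liftKaehlerDifferential_comp_D]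
    rfl
  have hΘN : ∀ x, Θ x ∈ N := by
    intro x
    induction x using TensorProduct.induction_on with
    | zero => rw [map_zero]; exact N.zero_mem
    | add x z hx hz => rw [map_add]; exact N.add_mem hx hz
    | tmul s ω =>
      have hω : ω ∈ Submodule.span C (Set.range (KaehlerDifferential.D A C)) := by
        rw [KaehlerDifferential.span_range_derivation]; exact Submodule.mem_top
      induction hω using Submodule.span_induction generalizing s with
      | mem x hx =>
        obtain ⟨c, rfl⟩ := hx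
        rw [hΘD]; exact N.mul_mem_left _ (hy c)
      | zero => rw [TensorProduct.tmul_zero, map_zero]; exact N.zero_mem
      | add x z _ _ hx hz => rw [TensorProduct.tmul_add, map_add]; exact N.add_mem (hx s) (hz s)
      | smul c x _ hx => rw [← TensorProduct.smul_tmul]; exact hx _
  have hker : I.map (algebraMap A A') • (⊤ : Submodule A' (A' ⊗[C] KaehlerDifferential A C)) ≤
      LinearMap.ker Θ := by
    refine Submodule.smul_le.2 fun r hr x _ => ?_
    rw [LinearMap.mem_ker, map_smul]
    refine hNN _ _ ?_ (hΘN x)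
    have : I.map (algebraMap A A') ≤ N.comap g.toRingHom := by
      refine Ideal.map_le_iff_le_comap.2 fun i hi => ?_
      show g (algebraMap A A' i) ∈ N
      rw [g.commutes]
      exact hIN (Ideal.mem_map_of_mem _ hi)
    exact this hr
  refine ⟨(Submodule.liftQ _ Θ hker).restrictScalars A, fun s p => ?_, fun p => ?_, fun c => ?_⟩
  · exact ((Submodule.liftQ _ Θ hker).map_smul s p).trans rfl
  · obtain ⟨w, rfl⟩ := Submodule.Quotient.mk_surjective _ p
    exact hΘN w
  · show Θ ((1 : A') ⊗ₜ KaehlerDifferential.D A C c) = _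
    rw [hΘD, map_one, one_mul]

/-- Semilinear maps on differentials give maps near `g ∘ u`. -/
theorem exists_ofTheta {B : Type u} [CommRing B] [Algebra A B] (g : A' →ₐ[A] B)
    (θ : PQ C A' I →ₗ[A] B) (hθ : ∀ s p, θ (s • p) = g s * θ p) (h0 : ∀ p q, θ p * θ q = 0) :
    ∃ x : C →ₐ[A] B, ∀ c, x c = g (algebraMap C A' c) + θ (dd A' I c) := by
  refine ⟨
    { toFun := fun c => g (algebraMap C A' c) + θ (dd A' I c)
      map_one' := ?_
      map_mul' := fun a b => ?_
      map_zero' := ?_
      map_add' := fun a b => ?_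
      commutes' := fun a => ?_ }, fun c => rfl⟩
  · have : dd A' I (1 : C) = 0 := by rw [← map_one (algebraMap A C), dd_algebraMap]
    rw [this]; simp
  · have := h0 (dd A' I a) (dd A' I b)
    simp only [dd_mul, map_mul, map_add, hθ]
    linear_combination -this
  · have : dd A' I (0 : C) = 0 := by rw [← map_zero (algebraMap A C), dd_algebraMap]
    rw [this]; simp
  · simp only [dd_add, map_add]; abel
  · rw [dd_algebraMap, map_zero, add_zero, ← IsScalarTower.algebraMap_apply, g.commutes]

/-- `y` is the transport of `x` to the point `g ∘ u`. -/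
def IsTrans (P : Pts.{u, v} A C) {B : Type u} [CommRing B] [Algebra A B] (N : Ideal B)
    (g : A' →ₐ[A] B) (x y : C →ₐ[A] B) : Prop :=
  (∀ c, y c - g (algebraMap C A' c) ∈ N) ∧ P.pt y = P.pt x

variable (P : Pts.{u, v} A C)

theorem isTrans_unique {B : Type u} [CommRing B] [Algebra A B] {N : Ideal B} (hN : N ^ 2 = ⊥)
    {g : A' →ₐ[A] B} {x y y' : C →ₐ[A] B} (h : IsTrans P N g x y) (h' : IsTrans P N g x y') : y = y' := by
  refine P.lift_unique N hN y y' (AlgHom.ext fun c => ?_) (h.2.trans h'.2.symm)
  show Ideal.Quotient.mk N (y c) = Ideal.Quotient.mk N (y' c)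
  rw [Ideal.Quotient.mk_eq_mk_iff_sub_mem]
  have := N.sub_mem (h.1 c) (h'.1 c)
  simpa using this

theorem isTrans_map {B B' : Type u} [CommRing B] [CommRing B'] [Algebra A B] [Algebra A B']
    (h : B →ₐ[A] B') {N : Ideal B} {N' : Ideal B'} (hN : ∀ b ∈ N, h b ∈ N') {g : A' →ₐ[A] B}
    {g' : A' →ₐ[A] B'} (hg : ∀ s, h (g s) - g' s ∈ N') {x y : C →ₐ[A] B} (t : IsTrans P N g x y) :
    IsTrans P N' g' (h.comp x) (h.comp y) := by
  refine ⟨fun c => ?_, ?_⟩
  · have := N'.add_mem (hN _ (t.1 c)) (hg (algebraMap C A' c))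
    simpa using this
  · rw [← P.map_pt, ← P.map_pt, t.2]

/-- The descent-relevant maps between points over `A/I`. -/
theorem exists_isTrans (z₀ : P.F (A ⧸ I))
    (q : A ⧸ I →ₐ[A] A' ⧸ I.map (algebraMap A A'))
    (hu : P.map q z₀ = P.pt ((Ideal.Quotient.mkₐ A (I.map (algebraMap A A'))).comp
      (IsScalarTower.toAlgHom A C A')))
    {B : Type u} [CommRing B] [Algebra A B] (N : Ideal B) (hN : N ^ 2 = ⊥)
    (hIN : I.map (algebraMap A B) ≤ N) (g₁ g₂ : A' →ₐ[A] B) (x : C →ₐ[A] B)
    (hx : ∀ c, x c - g₂ (algebraMap C A' c) ∈ N) : ∃ y, IsTrans P N g₁ x y := by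
  have hle : ∀ g : A' →ₐ[A] B, I.map (algebraMap A A') ≤ N.comap g := fun g => by
    refine Ideal.map_le_iff_le_comap.2 fun i hi => ?_
    show g (algebraMap A A' i) ∈ N
    rw [g.commutes]
    exact hIN (Ideal.mem_map_of_mem _ hi)
  let bar : (A' →ₐ[A] B) → (A' ⧸ I.map (algebraMap A A') →ₐ[A] B ⧸ N) := fun g =>
    Ideal.Quotient.liftₐ _ ((Ideal.Quotient.mkₐ A N).comp g) fun a ha =>
      Ideal.Quotient.eq_zero_iff_mem.2 (hle g ha)
  have hbar : ∀ g, (bar g).comp q = (bar g₁).comp q := fun g => AlgHom.ext fun a => by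
    obtain ⟨a, rfl⟩ := Ideal.Quotient.mk_surjective a
    rw [show Ideal.Quotient.mk I a = algebraMap A (A ⧸ I) a from rfl, AlgHom.commutes, AlgHom.commutes]
  have key : ∀ g, P.map (bar g) (P.map q z₀) =
      P.pt ((Ideal.Quotient.mkₐ A N).comp (g.comp (IsScalarTower.toAlgHom A C A'))) := fun g => by
    rw [hu, P.map_pt]
    rfl
  have hx' : P.map (Ideal.Quotient.mkₐ A N) (P.pt x) =
      P.pt ((Ideal.Quotient.mkₐ A N).comp (g₁.comp (IsScalarTower.toAlgHom A C A'))) := by
    rw [P.map_pt, ← key, ← P.map_comp, ← hbar g₂, P.map_comp, key]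
    congr 1
    exact AlgHom.ext fun c => (Ideal.Quotient.mk_eq_mk_iff_sub_mem _ _).2 (hx c)
  obtain ⟨y, hy1, hy2⟩ := P.exists_lift N hN _ _ hx'
  exact ⟨y, fun c => (Ideal.Quotient.mk_eq_mk_iff_sub_mem _ _).1 (AlgHom.congr_fun hy1 c), hy2⟩

end Groth.Agent.TorsorLift
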