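import Groth.Agent.TorsorLift.Glue
import Groth.Agent.ASp.InfRep
import Groth.Agent.SmoothLiftLib.Iff

/-!
Lifts of a point of a sheaf over an affine scheme with a formally smooth etale chart.
-/

set_option autoImplicit false
set_option backward.isDefEq.respectTransparency false
set_option backward.isDefEq.respectTransparency.types false

universe u

open CategoryTheory CategoryTheory.Limits AlgebraicGeometry Opposite TensorProduct

namespace Groth.Agent.TorsorLift

open _root_.AlgSp Groth.Agent.ASp Groth.Agent.Inf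

variable {S : Scheme.{u}} {A : Type u} [CommRing A] {str : Spec (CommRingCat.of A) ⟶ S}

/-- The test object of an algebra. -/
noncomputable abbrev TA (str : Spec (CommRingCat.of A) ⟶ S) (B : Type u) [CommRing B] [Algebra A B] : Over S :=
  TT (strR (algebraMap A B) str)

/-- The map of test objects of an algebra map. -/
noncomputable def mor (str : Spec (CommRingCat.of A) ⟶ S) {B B' : Type u} [CommRing B] [CommRing B']
    [Algebra A B] [Algebra A B'] (h : B →ₐ[A] B') : TA str B' ⟶ TA str B :=
  Over.homMk (Spec.map (CommRingCat.ofHom h.toRingHom)) (by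
    show Spec.map (CommRingCat.ofHom h.toRingHom) ≫ Spec.map (CommRingCat.ofHom (algebraMap A B)) ≫ str =
      Spec.map (CommRingCat.ofHom (algebraMap A B')) ≫ str
    rw [← Spec.map_comp_assoc, ← CommRingCat.ofHom_comp]
    congr 3
    exact h.comp_algebraMap)

theorem mor_left {B B' : Type u} [CommRing B] [CommRing B'] [Algebra A B] [Algebra A B'] (h : B →ₐ[A] B') :
    (mor str h).left = Spec.map (CommRingCat.ofHom h.toRingHom) := rfl

theorem mor_cc {B B' : Type u} [CommRing B] [CommRing B'] [Algebra A B] [Algebra A B'] (h : B →ₐ[A] B') :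
    mor str h ≫ cc (algebraMap A B) str = cc (algebraMap A B') str := by
  apply Over.OverMorphism.ext
  show Spec.map (CommRingCat.ofHom h.toRingHom) ≫ Spec.map (CommRingCat.ofHom (algebraMap A B)) = _
  rw [← Spec.map_comp, ← CommRingCat.ofHom_comp]
  congr 2
  exact h.comp_algebraMap

theorem mor_comp {B B' B'' : Type u} [CommRing B] [CommRing B'] [CommRing B''] [Algebra A B] [Algebra A B']
    [Algebra A B''] (g : B →ₐ[A] B') (h : B' →ₐ[A] B'') : mor str (h.comp g) = mor str h ≫ mor str g := by
  apply Over.OverMorphism.ext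
  show Spec.map (CommRingCat.ofHom (h.comp g).toRingHom) =
    Spec.map (CommRingCat.ofHom h.toRingHom) ≫ Spec.map (CommRingCat.ofHom g.toRingHom)
  rw [← Spec.map_comp, ← CommRingCat.ofHom_comp]
  rw [show (h.comp g).toRingHom = h.toRingHom.comp g.toRingHom from rfl]

theorem quot_str {B : Type u} [CommRing B] [Algebra A B] (N : Ideal B) :
    Spec.map (CommRingCat.ofHom (algebraMap A (B ⧸ N))) ≫ str =
      Spec.map (CommRingCat.ofHom (Ideal.Quotient.mk N)) ≫ Spec.map (CommRingCat.ofHom (algebraMap A B)) ≫ str := by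
  rw [← Spec.map_comp_assoc, ← CommRingCat.ofHom_comp,
    show algebraMap A (B ⧸ N) = (Ideal.Quotient.mk N).comp (algebraMap A B) from rfl]

theorem quotHom_hom {B : Type u} [CommRing B] [Algebra A B] (N : Ideal B) :
    𝟙 (Spec (CommRingCat.of (B ⧸ N))) ≫ Spec.map (CommRingCat.ofHom (algebraMap A (B ⧸ N))) ≫ str =
      Spec.map (CommRingCat.ofHom (Ideal.Quotient.mk N)) ≫ Spec.map (CommRingCat.ofHom (algebraMap A B)) ≫ str :=
  (Category.id_comp _).trans (quot_str N)

theorem quotHom'_hom {B : Type u} [CommRing B] [Algebra A B] (N : Ideal B) :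
    𝟙 (Spec (CommRingCat.of (B ⧸ N))) ≫
        Spec.map (CommRingCat.ofHom (Ideal.Quotient.mk N)) ≫ Spec.map (CommRingCat.ofHom (algebraMap A B)) ≫ str =
      Spec.map (CommRingCat.ofHom (algebraMap A (B ⧸ N))) ≫ str :=
  (Category.id_comp _).trans (quot_str N).symm

/-- The change of structure map on the closed subscheme. -/
noncomputable def quotIn {B : Type u} [CommRing B] [Algebra A B] (N : Ideal B) :
    T0 N (strR (algebraMap A B) str) ⟶ TA str (B ⧸ N) :=
  Over.homMk (𝟙 (Spec (CommRingCat.of (B ⧸ N)))) (quotHom_hom N)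

/-- The inverse of `quotIn`. -/
noncomputable def quotOut {B : Type u} [CommRing B] [Algebra A B] (N : Ideal B) :
    TA str (B ⧸ N) ⟶ T0 N (strR (algebraMap A B) str) :=
  Over.homMk (𝟙 (Spec (CommRingCat.of (B ⧸ N)))) (quotHom'_hom N)

theorem quotOut_quotIn {B : Type u} [CommRing B] [Algebra A B] (N : Ideal B) :
    quotOut (str := str) N ≫ quotIn N = 𝟙 _ :=
  Over.OverMorphism.ext (Category.id_comp (𝟙 (Spec (CommRingCat.of (B ⧸ N)))))

theorem quotIn_mor {B : Type u} [CommRing B] [Algebra A B] (N : Ideal B) :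
    quotIn N ≫ mor str (Ideal.Quotient.mkₐ A N) = qI N (strR (algebraMap A B) str) :=
  Over.OverMorphism.ext
    (Category.id_comp (Spec.map (CommRingCat.ofHom (Ideal.Quotient.mkₐ A N).toRingHom)))

/-- Two maps agreeing on the base factor through the double cover. -/
theorem exists_factor {A' : Type u} [CommRing A'] [Algebra A A'] {W : Over S} (gi gj : W ⟶ TA str A')
    (hij : gi ≫ cc (algebraMap A A') str = gj ≫ cc (algebraMap A A') str) :
    ∃ w : W ⟶ TA str (A' ⊗[A] A'),
      w ≫ mor str (Algebra.TensorProduct.includeLeft : A' →ₐ[A] A' ⊗[A] A') = gi ∧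
      w ≫ mor str (Algebra.TensorProduct.includeRight : A' →ₐ[A] A' ⊗[A] A') = gj := by
  let gl : W.left ⟶ Spec (CommRingCat.of A') := gi.left
  let gr : W.left ⟶ Spec (CommRingCat.of A') := gj.left
  have hij' : gl ≫ Spec.map (CommRingCat.ofHom (algebraMap A A')) =
      gr ≫ Spec.map (CommRingCat.ofHom (algebraMap A A')) := congrArg CommaMorphism.left hij
  let w₀ : W.left ⟶ Spec (CommRingCat.of (A' ⊗[A] A')) :=
    pullback.lift gl gr hij' ≫ (pullbackSpecIso A A' A').hom
  have hw1 : w₀ ≫ Spec.map (CommRingCat.ofHom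
      (Algebra.TensorProduct.includeLeftRingHom : A' →+* A' ⊗[A] A')) = gl := by
    simp only [w₀, Category.assoc, pullbackSpecIso_hom_fst, pullback.lift_fst]
  have hw2 : w₀ ≫ Spec.map (CommRingCat.ofHom
      ((Algebra.TensorProduct.includeRight : A' →ₐ[A] A' ⊗[A] A').toRingHom)) = gr := by
    simp only [w₀, Category.assoc]
    erw [pullbackSpecIso_hom_snd]
    exact pullback.lift_snd _ _ _
  let w : W ⟶ TA str (A' ⊗[A] A') := Over.homMk w₀ (by
    have h1 := Over.w gi
    change gl ≫ (TA str A').hom = W.hom at h1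
    rw [← Over.w (mor str (Algebra.TensorProduct.includeLeft : A' →ₐ[A] A' ⊗[A] A')), ← Category.assoc]
    exact (congrArg (· ≫ (TA str A').hom) hw1).trans h1)
  exact ⟨w, Over.OverMorphism.ext hw1, Over.OverMorphism.ext hw2⟩

variable (str) in
/-- The functor of points of a sheaf over `Spec A` with an etale chart. -/
noncomputable def pts {Z : Sp S} (g : Z ⟶ (yon S).obj (TT str)) (C : Type u) [CommRing C] [Algebra A C]
    (p : (yon S).obj (TA str C) ⟶ Z) (hp : RepWith @Etale p)
    (hpg : p ≫ g = (yon S).map (cc (algebraMap A C) str)) : Pts.{u, u+1} A C where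
  F B _ _ := {x : (yon S).obj (TA str B) ⟶ Z // x ≫ g = (yon S).map (cc (algebraMap A B) str)}
  map h z := ⟨(yon S).map (mor str h) ≫ z.1, by
    rw [Category.assoc, z.2, ← Functor.map_comp, mor_cc]⟩
  map_comp g h z := Subtype.ext (by
    show _ = (yon S).map (mor str h) ≫ (yon S).map (mor str g) ≫ z.1
    simp only [mor_comp, Functor.map_comp, Category.assoc])
  pt c := ⟨(yon S).map (mor str c) ≫ p, by rw [Category.assoc, hpg, ← Functor.map_comp, mor_cc]⟩
  map_pt h c := Subtype.ext (by
    show (yon S).map (mor str h) ≫ (yon S).map (mor str c) ≫ p = _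
    simp only [mor_comp, Functor.map_comp, Category.assoc])
  exists_lift := @fun B _ _ N hN c₀ z hz => by
    have hz' : (yon S).map (mor str (Ideal.Quotient.mkₐ A N)) ≫ z.1 = (yon S).map (mor str c₀) ≫ p :=
      congrArg Subtype.val hz
    obtain ⟨v, ⟨hv1, hv2⟩, -⟩ := existsUnique_chart_lift hN hp z.1 (quotIn N ≫ mor str c₀) (by
      rw [Functor.map_comp, Category.assoc, ← hz', ← Functor.map_comp_assoc, quotIn_mor])
    obtain ⟨ψ, hψ⟩ := Spec.map_surjective v.left
    have hcc : v ≫ cc (algebraMap A C) str = cc (algebraMap A B) str := by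
      apply (yon S).map_injective
      rw [Functor.map_comp, ← hpg, ← Category.assoc, hv2, z.2]
    have hψA : ∀ a, ψ.hom (algebraMap A C a) = algebraMap A B a := fun a => by
      have := congrArg CommaMorphism.left hcc
      change v.left ≫ (cc (algebraMap A C) str).left = _ at this
      rw [← hψ] at this
      change Spec.map ψ ≫ Spec.map (CommRingCat.ofHom (algebraMap A C)) =
        Spec.map (CommRingCat.ofHom (algebraMap A B)) at this
      rw [← Spec.map_comp] at this
      exact congr($(Spec.map_injective this).hom a)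
    let c : C →ₐ[A] B := { ψ.hom with commutes' := hψA }
    have hmor : mor str c = v := Over.OverMorphism.ext (by
      show Spec.map (CommRingCat.ofHom ψ.hom) = _
      rw [CommRingCat.ofHom_hom, hψ])
    refine ⟨c, ?_, Subtype.ext ?_⟩
    · have h1 := congrArg CommaMorphism.left hv1
      change (qI N (strR (algebraMap A B) str)).left ≫ v.left = (quotIn N).left ≫ (mor str c₀).left at h1
      rw [← hψ] at h1
      change Spec.map (CommRingCat.ofHom (Ideal.Quotient.mk N)) ≫ Spec.map ψ =
        𝟙 _ ≫ Spec.map (CommRingCat.ofHom c₀.toRingHom) at h1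
      rw [Category.id_comp, ← Spec.map_comp] at h1
      exact AlgHom.ext fun x => congr($(Spec.map_injective h1).hom x)
    · show (yon S).map (mor str c) ≫ p = z.1
      rw [hmor, hv2]
  lift_unique := @fun B _ _ N hN c c' hcc' hpt => by
    have hpt' : (yon S).map (mor str c) ≫ p = (yon S).map (mor str c') ≫ p := congrArg Subtype.val hpt
    have hq : qI N (strR (algebraMap A B) str) ≫ mor str c = qI N (strR (algebraMap A B) str) ≫ mor str c' := by
      rw [← quotIn_mor, Category.assoc, Category.assoc, ← mor_comp, ← mor_comp, hcc']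
    have := (existsUnique_chart_lift hN hp ((yon S).map (mor str c) ≫ p)
      (qI N (strR (algebraMap A B) str) ≫ mor str c) (by rw [Functor.map_comp, Category.assoc])).unique
      ⟨rfl, rfl⟩ ⟨hq.symm, hpt'.symm⟩
    exact AlgHom.ext fun x => congr($(Spec.map_injective (congrArg CommaMorphism.left this)).hom x)

/-- Lifts exist when they exist on an etale cover, for a formally smooth chart. -/
theorem exists_lift_of_cover {Z : Sp S} (g : Z ⟶ (yon S).obj (TT str)) {I : Ideal A} (hI : I ^ 2 = ⊥)
    (z₀ : (yon S).obj (T0 I str) ⟶ Z) (hz₀ : z₀ ≫ g = (yon S).map (qI I str))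
    {C : Type u} [CommRing C] [Algebra A C] [Algebra.FormallySmooth A C]
    (p : (yon S).obj (TA str C) ⟶ Z) (hp : RepWith @Etale p)
    (hpg : p ≫ g = (yon S).map (cc (algebraMap A C) str))
    {A' : Type u} [CommRing A'] [Algebra A A'] [Algebra.Etale A A']
    (hsurj : Function.Surjective (Spec.map (CommRingCat.ofHom (algebraMap A A'))))
    (u : C →ₐ[A] A')
    (hu : (yon S).map (qI (I.map (algebraMap A A')) (strR (algebraMap A A') str)) ≫
        (yon S).map (mor str u) ≫ p = (yon S).map (cc0 (algebraMap A A') I str) ≫ z₀) :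
    ∃ l : (yon S).obj (TT str) ⟶ Z, (yon S).map (qI I str) ≫ l = z₀ ∧ l ≫ g = 𝟙 _ := by
  letI : Algebra C A' := u.toRingHom.toAlgebra
  haveI : IsScalarTower A C A' := IsScalarTower.of_algebraMap_eq fun a => (u.commutes a).symm
  haveI : Module.FaithfullyFlat A A' := Module.FaithfullyFlat.of_comap_surjective hsurj
  let J := I.map (algebraMap A A')
  let c : TA str A' ⟶ TT str := cc (algebraMap A A') str
  have he : Etale c.left := (HasRingHomProperty.Spec_iff (P := @Etale)).2
    (RingHom.etale_algebraMap.2 inferInstance)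
  haveI := he
  let P := pts str g C p hp hpg
  let q : A ⧸ I →ₐ[A] A' ⧸ J := Ideal.Quotient.liftₐ I (Algebra.ofId A (A' ⧸ J)) fun a ha =>
    Ideal.Quotient.eq_zero_iff_mem.2 (Ideal.mem_map_of_mem _ ha)
  let ε₀ : TA str (A ⧸ I) ⟶ T0 I str := Over.homMk (𝟙 _) (Category.id_comp _)
  let ε₀' : T0 I str ⟶ TA str (A ⧸ I) := Over.homMk (𝟙 _) (Category.id_comp _)
  let z : P.F (A ⧸ I) := ⟨(yon S).map ε₀ ≫ z₀, by
    rw [Category.assoc, hz₀, ← Functor.map_comp]
    congr 1⟩
  have hq0 : quotIn J ≫ mor str q ≫ ε₀ = cc0 (algebraMap A A') I str := by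
    apply Over.OverMorphism.ext
    show 𝟙 _ ≫ Spec.map (CommRingCat.ofHom q.toRingHom) ≫ 𝟙 _ = Spec.map _
    rw [Category.id_comp, Category.comp_id]
    congr 2
  have hqin : ∀ {x y : (yon S).obj (TA str (A' ⧸ J)) ⟶ Z},
      (yon S).map (quotIn J) ≫ x = (yon S).map (quotIn J) ≫ y → x = y := by
    intro x y h
    have := congrArg ((yon S).map (quotOut J) ≫ ·) h
    simp only [← Functor.map_comp_assoc, quotOut_quotIn, CategoryTheory.Functor.map_id, Category.id_comp] at this
    exact this
  have hu' : P.map q z = P.pt ((Ideal.Quotient.mkₐ A J).comp (IsScalarTower.toAlgHom A C A')) := by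
    refine Subtype.ext (hqin ?_)
    show (yon S).map (quotIn J) ≫ (yon S).map (mor str q) ≫ (yon S).map ε₀ ≫ z₀ =
      (yon S).map (quotIn J) ≫ (yon S).map (mor str ((Ideal.Quotient.mkₐ A J).comp u)) ≫ p
    rw [mor_comp, Functor.map_comp, Category.assoc, ← Functor.map_comp_assoc _ (quotIn J),
      ← Functor.map_comp_assoc, ← Functor.map_comp_assoc (yon S) (quotIn J), quotIn_mor, Category.assoc, hq0,
      ← hu]
  have hdesc : ∀ z : P.F A',
      P.map (Algebra.TensorProduct.includeLeft : A' →ₐ[A] A' ⊗[A] A') z =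
        P.map (Algebra.TensorProduct.includeRight : A' →ₐ[A] A' ⊗[A] A') z →
      ∃ l : P.F A, P.map (Algebra.ofId A A') l = z := by
    intro z hz
    have hz' := congrArg Subtype.val hz
    obtain ⟨l, hl, -⟩ := existsUnique_glue (ι := PUnit.{u+1}) (U := fun _ => TA str A') (c := fun _ => c)
      (fun _ => (inferInstance : Flat c.left))
      (fun _ => (inferInstance : LocallyOfFinitePresentation c.left))
      (fun t => ⟨PUnit.unit, hsurj t⟩) (fun _ => z.1) (fun _ _ W gi gj hij => by
        obtain ⟨w, e1, e2⟩ := exists_factor gi gj hij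
        rw [← e1, ← e2, Functor.map_comp, Functor.map_comp, Category.assoc, Category.assoc]
        exact congrArg (_ ≫ ·) hz')
    let ε : TA str A ⟶ TT str := cc (algebraMap A A) str
    have hε : mor str (Algebra.ofId A A') ≫ ε = c := mor_cc _
    refine ⟨⟨(yon S).map ε ≫ l, ?_⟩, Subtype.ext ?_⟩
    · have : l ≫ g = 𝟙 _ := by
        refine hom_ext_fppf (ι := PUnit.{u+1}) (U := fun _ => TA str A') (c := fun _ => c)
          (fun _ => (inferInstance : Flat c.left))
          (fun _ => (inferInstance : LocallyOfFinitePresentation c.left))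
          (fun t => ⟨PUnit.unit, hsurj t⟩) fun i => ?_
        rw [← Category.assoc, hl i, z.2, Category.comp_id]
      rw [Category.assoc, this, Category.comp_id]
    · show (yon S).map (mor str (Algebra.ofId A A')) ≫ (yon S).map ε ≫ l = z.1
      rw [← Functor.map_comp_assoc, hε, hl PUnit.unit]
  have hpb := isPullback_cc0 (algebraMap A A') I str
  have hsep : Function.Injective (P.map q) := by
    intro x y h
    have h' : (yon S).map (mor str q) ≫ x.1 = (yon S).map (mor str q) ≫ y.1 := congrArg Subtype.val h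
    haveI : IsIso ((Over.forget S).map ε₀') := inferInstanceAs (IsIso (𝟙 _))
    haveI : IsIso ε₀' := isIso_of_reflects_iso _ (Over.forget S)
    refine Subtype.ext ((cancel_epi ((yon S).map ε₀')).1 ?_)
    have hfl : Flat (cc0 (algebraMap A A') I str).left :=
      MorphismProperty.of_isPullback (P := @Flat) hpb (inferInstance : Flat c.left)
    have hfp : LocallyOfFinitePresentation (cc0 (algebraMap A A') I str).left :=
      MorphismProperty.of_isPullback (P := @LocallyOfFinitePresentation) hpb
        (inferInstance : LocallyOfFinitePresentation c.left)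
    haveI : Surjective c.left := ⟨hsurj⟩
    have hs : Surjective (cc0 (algebraMap A A') I str).left :=
      MorphismProperty.of_isPullback (P := @Surjective) hpb inferInstance
    refine hom_ext_fppf (ι := PUnit.{u+1}) (U := fun _ => T0 J (strR (algebraMap A A') str))
      (c := fun _ => cc0 (algebraMap A A') I str) (fun _ => hfl) (fun _ => hfp)
      (fun t => ⟨PUnit.unit, hs.surj t⟩) fun _ => ?_
    have e : cc0 (algebraMap A A') I str ≫ ε₀' = quotIn J ≫ mor str q := by
      rw [← hq0]
      apply Over.OverMorphism.ext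
      simp [ε₀, ε₀']
    rw [← Functor.map_comp_assoc, ← Functor.map_comp_assoc, e, Functor.map_comp, Category.assoc, Category.assoc, h']
  obtain ⟨l, hl⟩ := exists_lift I P hI z q hu' hdesc hsep
  let ε' : TT str ⟶ TA str A := Over.homMk (𝟙 _) (by
    show 𝟙 _ ≫ Spec.map (CommRingCat.ofHom (algebraMap A A)) ≫ str = str
    rw [Category.id_comp, Algebra.algebraMap_self, CommRingCat.ofHom_id, Spec.map_id, Category.id_comp])
  refine ⟨(yon S).map ε' ≫ l.1, ?_, ?_⟩
  · have h1 : (yon S).map (mor str (Ideal.Quotient.mkₐ A I)) ≫ l.1 = (yon S).map ε₀ ≫ z₀ :=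
      congrArg Subtype.val hl
    have e1 : qI I str ≫ ε' = ε₀' ≫ mor str (Ideal.Quotient.mkₐ A I) := by
      apply Over.OverMorphism.ext
      show Spec.map _ ≫ 𝟙 _ = 𝟙 _ ≫ Spec.map _
      rw [Category.comp_id, Category.id_comp]
      rfl
    have e2 : ε₀' ≫ ε₀ = 𝟙 _ := Over.OverMorphism.ext (Category.id_comp _)
    rw [← Functor.map_comp_assoc, e1, Functor.map_comp, Category.assoc, h1, ← Functor.map_comp_assoc, e2]
    simp
  · rw [Category.assoc, l.2, ← Functor.map_comp]
    have : ε' ≫ cc (algebraMap A A) str = 𝟙 _ := by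
      apply Over.OverMorphism.ext
      show 𝟙 _ ≫ Spec.map (CommRingCat.ofHom (algebraMap A A)) = 𝟙 _
      rw [Category.id_comp, Algebra.algebraMap_self, CommRingCat.ofHom_id, Spec.map_id]
    rw [this, CategoryTheory.Functor.map_id]

end Groth.Agent.TorsorLift
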